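/-
The twisted tensor products of the modules of homogeneous forms of degree at most two of two by two matrices, in
coordinates: multiplicativity, the values at diagonal matrices and the compatibility with field maps.
-/
import Mathlib

set_option autoImplicit false

namespace Cfsg.Agent.SL2Defining

open Matrix Polynomial

section Sym

variable {R : Type*} [CommRing R]

/-- The matrices of the forms of degree at most two. -/
def sym : (d : Fin 3) → Matrix (Fin 2) (Fin 2) R → Matrix (Fin (d.val + 1)) (Fin (d.val + 1)) R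
  | ⟨0, _⟩, _ => !![1]
  | ⟨1, _⟩, g => !![g 0 0, g 0 1; g 1 0, g 1 1]
  | ⟨2, _⟩, g => !![g 0 0 * g 0 0, g 0 0 * g 0 1, g 0 1 * g 0 1;
      2 * (g 0 0 * g 1 0), g 0 0 * g 1 1 + g 0 1 * g 1 0, 2 * (g 0 1 * g 1 1);
      g 1 0 * g 1 0, g 1 0 * g 1 1, g 1 1 * g 1 1]

theorem sym_mul : ∀ (d : Fin 3) (g h : Matrix (Fin 2) (Fin 2) R), sym d (g * h) = sym d g * sym d h
  | ⟨0, _⟩, g, h => by ext i j; fin_cases i; fin_cases j; simp [sym]
  | ⟨1, _⟩, g, h => by
    ext i j; fin_cases i <;> fin_cases j <;> simp [sym, Matrix.mul_apply, Fin.sum_univ_two]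
  | ⟨2, _⟩, g, h => by
    ext i j
    fin_cases i <;> fin_cases j <;> simp [sym, Matrix.mul_apply, Fin.sum_univ_two, Fin.sum_univ_three] <;> ring

theorem sym_one : ∀ d : Fin 3, sym d (1 : Matrix (Fin 2) (Fin 2) R) = 1
  | ⟨0, _⟩ => by ext i j; fin_cases i; fin_cases j; simp [sym]
  | ⟨1, _⟩ => by ext i j; fin_cases i <;> fin_cases j <;> simp [sym]
  | ⟨2, _⟩ => by ext i j; fin_cases i <;> fin_cases j <;> simp [sym]

theorem sym_map {S : Type*} [CommRing S] (φ : R →+* S) : ∀ (d : Fin 3) (g : Matrix (Fin 2) (Fin 2) R)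
    (i j : Fin (d.val + 1)), φ (sym d g i j) = sym d (g.map φ) i j
  | ⟨0, _⟩, g => by intro i j; fin_cases i; fin_cases j; simp [sym]
  | ⟨1, _⟩, g => by intro i j; fin_cases i <;> fin_cases j <;> simp [sym]
  | ⟨2, _⟩, g => by intro i j; fin_cases i <;> fin_cases j <;> simp [sym, map_ofNat]

end Sym

variable {F : Type*} [Field F] (p : ℕ) [ExpChar F p] {n : ℕ}

/-- The coordinates of the module with digits `d`. -/
abbrev Idx (d : Fin n → Fin 3) : Type := ∀ i, Fin ((d i).val + 1)

/-- The weight of a coordinate. -/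
def wt (d : Fin n → Fin 3) (e : Idx d) : ℤ := ∑ i, ((d i).val - 2 * (e i).val : ℤ) * (p : ℤ) ^ i.val

/-- The highest weight. -/
def top (d : Fin n → Fin 3) : ℕ := ∑ i, (d i).val * p ^ i.val

/-- The matrix in the module with digits `d`. -/
def rep (d : Fin n → Fin 3) (g : Matrix (Fin 2) (Fin 2) F) : Matrix (Idx d) (Idx d) F :=
  Matrix.of fun e f => ∏ i, sym (d i) (g.map (iterateFrobenius F p i.val)) (e i) (f i)

variable (d : Fin n → Fin 3)

theorem rep_mul (g h : Matrix (Fin 2) (Fin 2) F) : rep p d (g * h) = rep p d g * rep p d h := by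
  ext e f
  simp only [rep, Matrix.mul_apply, Matrix.of_apply]
  simp_rw [← Finset.prod_mul_distrib]
  rw [← Fintype.prod_sum (fun i (x : Fin ((d i).val + 1)) =>
    sym (d i) (g.map (iterateFrobenius F p i.val)) (e i) x * sym (d i) (h.map (iterateFrobenius F p i.val)) x (f i))]
  exact Finset.prod_congr rfl fun i _ => by rw [Matrix.map_mul, sym_mul, Matrix.mul_apply]

theorem rep_one : rep p d (1 : Matrix (Fin 2) (Fin 2) F) = 1 := by
  ext e f
  simp only [rep, Matrix.of_apply, Matrix.map_one _ (map_zero _) (map_one _), sym_one, Matrix.one_apply]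
  rcases eq_or_ne e f with rfl | hne
  · simp
  · obtain ⟨i, hi⟩ := Function.ne_iff.1 hne
    rw [if_neg hne]
    exact Finset.prod_eq_zero (Finset.mem_univ i) (if_neg hi)

theorem rep_diag (c : Fˣ) : rep p d !![(c : F), 0; 0, ((c⁻¹ : Fˣ) : F)] =
    Matrix.diagonal fun e => ((c ^ wt p d e : Fˣ) : F) := by
  ext e f
  have hm : ∀ i : Fin n, (!![(c : F), 0; 0, ((c⁻¹ : Fˣ) : F)]).map (iterateFrobenius F p i.val) =
      !![((c ^ p ^ i.val : Fˣ) : F), 0; 0, (((c ^ p ^ i.val)⁻¹ : Fˣ) : F)] := by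
    intro i
    ext a b
    fin_cases a <;> fin_cases b <;> simp [iterateFrobenius_def, map_inv₀, (expChar_pos F p).ne']
  have hs : ∀ (u : Fˣ) (D : Fin 3) (a b : Fin (D.val + 1)), sym D !![(u : F), 0; 0, ((u⁻¹ : Fˣ) : F)] a b =
      if a = b then ((u ^ ((D.val : ℤ) - 2 * a.val) : Fˣ) : F) else 0
    | u, ⟨0, _⟩, a, b => by fin_cases a; fin_cases b; simp [sym]
    | u, ⟨1, _⟩, a, b => by fin_cases a <;> fin_cases b <;> simp [sym]
    | u, ⟨2, _⟩, a, b => by
      fin_cases a <;> fin_cases b <;> simp [sym, sq, show (2 : ℤ) - 4 = -2 by norm_num]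
  simp only [rep, Matrix.of_apply, hm, hs, Matrix.diagonal_apply]
  rcases eq_or_ne e f with rfl | hne
  · rw [if_pos rfl]
    simp only [if_true]
    rw [← Units.coe_prod, ← Finset.prod_congr rfl fun i _ => rfl]
    refine congrArg Units.val ?_
    have hz : ∀ (s : Finset (Fin n)) (a : Fin n → ℤ), c ^ (∑ i ∈ s, a i) = ∏ i ∈ s, c ^ a i := by
      intro s a
      induction s using Finset.cons_induction with
      | empty => simp
      | cons i s hi ih => rw [Finset.sum_cons, Finset.prod_cons, _root_.zpow_add, ih]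
    rw [wt, hz]
    exact Finset.prod_congr rfl fun i _ => by
      rw [← zpow_natCast c, ← _root_.zpow_mul, mul_comm]
      push_cast
      rfl
  · obtain ⟨i, hi⟩ := Function.ne_iff.1 hne
    rw [if_neg hne]
    exact Finset.prod_eq_zero (Finset.mem_univ i) (if_neg hi)

theorem charpoly_rep_diag (c : Fˣ) : (rep p d !![(c : F), 0; 0, ((c⁻¹ : Fˣ) : F)]).charpoly =
    ∏ e, (X - C ((c ^ wt p d e : Fˣ) : F)) := by
  rw [rep_diag, Matrix.charpoly_diagonal]

theorem rep_map {E : Type*} [Field E] [ExpChar E p] (φ : F →+* E) (g : Matrix (Fin 2) (Fin 2) F) :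
    (rep p d g).map φ = rep p d (g.map φ) := by
  ext e f
  simp only [rep, Matrix.map_apply, Matrix.of_apply, map_prod, sym_map, Matrix.map_map]
  refine Finset.prod_congr rfl fun i _ => ?_
  congr 2
  ext a
  simp [Function.comp, iterateFrobenius_def]

/-- The representation of the special linear group. -/
noncomputable def model : Representation F (SpecialLinearGroup (Fin 2) F) (Idx d → F) where
  toFun g := Matrix.toLin' (rep p d g.1)
  map_one' := by
    show Matrix.toLin' (rep p d (1 : Matrix (Fin 2) (Fin 2) F)) = 1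
    rw [rep_one, Matrix.toLin'_one]; rfl
  map_mul' g h := by
    show Matrix.toLin' (rep p d (g.1 * h.1)) = _
    rw [rep_mul, Matrix.toLin'_mul]; rfl

theorem model_apply (g : SpecialLinearGroup (Fin 2) F) (x : Idx d → F) : model p d g x = rep p d g.1 *ᵥ x :=
  Matrix.toLin'_apply _ _

theorem charpoly_model (g : SpecialLinearGroup (Fin 2) F) : (model p d g).charpoly = (rep p d g.1).charpoly := by
  show (Matrix.toLin' (rep p d g.1)).charpoly = _
  rw [← LinearMap.charpoly_toMatrix _ (Pi.basisFun F _), LinearMap.toMatrix_eq_toMatrix', LinearMap.toMatrix'_toLin']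

end Cfsg.Agent.SL2Defining
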