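/-
The irreducible representations of SL(2, q), q a power of three, over the field with q elements: the vectors fixed by
the upper unitriangular group, the Hecke operator on them, and the comparison with the twisted tensor products.
-/
import Cfsg.Agent.Lib.SL2Defining.Model

set_option autoImplicit false
set_option linter.style.haveILetI false

namespace Cfsg.Agent.SL2Defining

open Matrix Polynomial

local notation "G[" F "]" => Matrix.SpecialLinearGroup (Fin 2) F

section Elements

variable {F : Type*} [Field F]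

/-- The upper unitriangular elements. -/
def uu (a : F) : G[F] := ⟨!![1, a; 0, 1], by simp [det_fin_two_of]⟩

/-- The lower unitriangular elements. -/
def ll (a : F) : G[F] := ⟨!![1, 0; a, 1], by simp [det_fin_two_of]⟩

/-- The diagonal elements. -/
def tor (c : Fˣ) : G[F] := ⟨!![(c : F), 0; 0, ((c⁻¹ : Fˣ) : F)], by simp [det_fin_two_of]⟩

/-- The monomial element. -/
def ww : G[F] := ⟨!![0, 1; -1, 0], by simp [det_fin_two_of]⟩

theorem sl2_ext {g h : G[F]} (h00 : g.1 0 0 = h.1 0 0) (h01 : g.1 0 1 = h.1 0 1) (h10 : g.1 1 0 = h.1 1 0)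
    (h11 : g.1 1 1 = h.1 1 1) : g = h := Subtype.ext (by ext i j; fin_cases i <;> fin_cases j <;> assumption)

theorem uu_coe (a : F) : ((uu a : G[F]) : Matrix (Fin 2) (Fin 2) F) = !![1, a; 0, 1] := rfl

theorem ll_coe (a : F) : ((ll a : G[F]) : Matrix (Fin 2) (Fin 2) F) = !![1, 0; a, 1] := rfl

theorem tor_coe (c : Fˣ) : ((tor c : G[F]) : Matrix (Fin 2) (Fin 2) F) = !![(c : F), 0; 0, ((c⁻¹ : Fˣ) : F)] := rfl

theorem ww_coe : ((ww : G[F]) : Matrix (Fin 2) (Fin 2) F) = !![0, 1; -1, 0] := rfl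

theorem tor_one : tor (1 : Fˣ) = (1 : G[F]) :=
  sl2_ext (by simp [tor_coe]) (by simp [tor_coe]) (by simp [tor_coe]) (by simp [tor_coe])

theorem uu_add (a b : F) : uu a * uu b = uu (a + b) :=
  sl2_ext (by simp [uu_coe, Matrix.mul_apply, Fin.sum_univ_two]) (by simp [uu_coe, add_comm, Matrix.mul_apply, Fin.sum_univ_two]) (by simp [uu_coe, Matrix.mul_apply, Fin.sum_univ_two]) (by simp [uu_coe, Matrix.mul_apply, Fin.sum_univ_two])

theorem uu_zero : uu (0 : F) = 1 := sl2_ext (by simp [uu_coe]) (by simp [uu_coe]) (by simp [uu_coe]) (by simp [uu_coe])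

theorem ll_add (a b : F) : ll a * ll b = ll (a + b) :=
  sl2_ext (by simp [ll_coe, Matrix.mul_apply, Fin.sum_univ_two]) (by simp [ll_coe, Matrix.mul_apply, Fin.sum_univ_two]) (by simp [ll_coe, Matrix.mul_apply, Fin.sum_univ_two]) (by simp [ll_coe, Matrix.mul_apply, Fin.sum_univ_two])

theorem ll_zero : ll (0 : F) = 1 := sl2_ext (by simp [ll_coe]) (by simp [ll_coe]) (by simp [ll_coe]) (by simp [ll_coe])

theorem tor_mul (c d : Fˣ) : tor c * tor d = tor (c * d) :=
  sl2_ext (by simp [tor_coe, Matrix.mul_apply, Fin.sum_univ_two]) (by simp [tor_coe, Matrix.mul_apply, Fin.sum_univ_two]) (by simp [tor_coe, Matrix.mul_apply, Fin.sum_univ_two]) (by simp [tor_coe, mul_comm, Matrix.mul_apply, Fin.sum_univ_two])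

theorem tor_uu (c : Fˣ) (a : F) : tor c * uu a = uu ((c : F) * c * a) * tor c :=
  sl2_ext (by simp [tor_coe, uu_coe, Matrix.mul_apply, Fin.sum_univ_two]) (by simp [tor_coe, uu_coe, Matrix.mul_apply, Fin.sum_univ_two]; field_simp) (by simp [tor_coe, uu_coe, Matrix.mul_apply, Fin.sum_univ_two]) (by simp [tor_coe, uu_coe, Matrix.mul_apply, Fin.sum_univ_two])

theorem tor_ww (c : Fˣ) : tor c * ww = ww * tor c⁻¹ :=
  sl2_ext (by simp [tor_coe, ww_coe, Matrix.mul_apply, Fin.sum_univ_two]) (by simp [tor_coe, ww_coe, Matrix.mul_apply, Fin.sum_univ_two]) (by simp [tor_coe, ww_coe, Matrix.mul_apply, Fin.sum_univ_two]) (by simp [tor_coe, ww_coe, Matrix.mul_apply, Fin.sum_univ_two])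

theorem big_cell (g : G[F]) (c : Fˣ) (hc : g.1 0 0 = c) : g = ll (g.1 1 0 * (c⁻¹ : Fˣ)) * tor c *
    uu ((c⁻¹ : Fˣ) * g.1 0 1) := by
  have hd := g.2
  rw [det_fin_two, hc] at hd
  refine sl2_ext ?_ ?_ ?_ ?_
  · simp [ll_coe, tor_coe, uu_coe, hc, Matrix.mul_apply, Fin.sum_univ_two]
  · simp [ll_coe, tor_coe, uu_coe, Matrix.mul_apply, Fin.sum_univ_two]
  · simp [ll_coe, tor_coe, uu_coe, Matrix.mul_apply, Fin.sum_univ_two]
  · simp [ll_coe, tor_coe, uu_coe, Matrix.mul_apply, Fin.sum_univ_two]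
    field_simp
    linear_combination hd

theorem other_cell (g : G[F]) (hg : g.1 0 0 = 0) : ∃ (e : F) (y : Fˣ), g = ll e * (ww * tor y) := by
  have hd := g.2
  rw [det_fin_two, hg, zero_mul, zero_sub] at hd
  have hx : g.1 0 1 ≠ 0 := fun h => by simp [h] at hd
  refine ⟨g.1 1 1 / g.1 0 1, (Units.mk0 _ hx)⁻¹, sl2_ext ?_ ?_ ?_ ?_⟩
  · simp [ll_coe, tor_coe, ww_coe, hg, Matrix.mul_apply, Fin.sum_univ_two]
  · simp [ll_coe, tor_coe, ww_coe, Matrix.mul_apply, Fin.sum_univ_two]
  · simp [ll_coe, tor_coe, ww_coe, Matrix.mul_apply, Fin.sum_univ_two]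
    field_simp
    linear_combination -hd
  · simp [ll_coe, tor_coe, ww_coe, Matrix.mul_apply, Fin.sum_univ_two]
    field_simp

theorem uu_ww (a : Fˣ) : uu (a : F) * ww = ll ((a⁻¹ : Fˣ) : F) * tor (-a) * uu (-((a⁻¹ : Fˣ) : F)) :=
  sl2_ext (by simp [uu_coe, ww_coe, ll_coe, tor_coe, Matrix.mul_apply, Fin.sum_univ_two]) (by simp [uu_coe, ww_coe, ll_coe, tor_coe, Matrix.mul_apply, Fin.sum_univ_two]) (by simp [uu_coe, ww_coe, ll_coe, tor_coe, Matrix.mul_apply, Fin.sum_univ_two])
    (by simp [uu_coe, ww_coe, ll_coe, tor_coe, Matrix.mul_apply, Fin.sum_univ_two]; try field_simp)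

theorem ww_uu_ww (b : Fˣ) :
    ww * uu (b : F) * ww = uu (-((b⁻¹ : Fˣ) : F)) * ww * tor (-b) * uu (-((b⁻¹ : Fˣ) : F)) :=
  sl2_ext (by simp [uu_coe, ww_coe, tor_coe, Matrix.mul_apply, Fin.sum_univ_two]) (by simp [uu_coe, ww_coe, tor_coe, Matrix.mul_apply, Fin.sum_univ_two]) (by simp [uu_coe, ww_coe, tor_coe, Matrix.mul_apply, Fin.sum_univ_two])
    (by simp [uu_coe, ww_coe, tor_coe, Matrix.mul_apply, Fin.sum_univ_two]; try field_simp)

theorem ww_sq : ww * ww = tor (-1 : Fˣ) :=
  sl2_ext (by simp [ww_coe, tor_coe, Matrix.mul_apply, Fin.sum_univ_two]) (by simp [ww_coe, tor_coe, Matrix.mul_apply, Fin.sum_univ_two]) (by simp [ww_coe, tor_coe, Matrix.mul_apply, Fin.sum_univ_two]) (by simp [ww_coe, tor_coe, Matrix.mul_apply, Fin.sum_univ_two])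

end Elements

variable {F : Type*} [Field F] {V V' : Type*} [AddCommGroup V] [Module F V] [AddCommGroup V'] [Module F V']

section Unipotent

/-- A commuting family of operators of order `p` in characteristic `p` fixes a nonzero vector. -/
theorem common_fixed {p : ℕ} [Fact p.Prime] [CharP F p] [Fintype F] [FiniteDimensional F V] [Nontrivial V]
    (A : F → Module.End F V) (hadd : ∀ a b, A (a + b) = A a * A b) (h0 : A 0 = 1) :
    ∃ x ≠ 0, ∀ a, A a x = x := by
  classical
  haveI : CharP (Module.End F V) p :=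
    charP_of_injective_algebraMap (algebraMap F (Module.End F V)).injective p
  have hpow : ∀ (a : F) (k : ℕ), A a ^ k = A (k • a) := by
    intro a k
    induction k with
    | zero => simp [h0]
    | succ k ih => rw [pow_succ, ih, ← hadd, succ_nsmul]
  have hnil : ∀ a, (A a - 1) ^ p = 0 := fun a => by
    rw [sub_pow_char_of_commute (p := p) (Commute.one_right _), one_pow, hpow, nsmul_eq_mul, CharP.cast_eq_zero,
      zero_mul, h0, sub_self]
  suffices h : ∀ S : Finset F, ∃ x : V, x ≠ 0 ∧ ∀ a ∈ S, A a x = x by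
    obtain ⟨x, hx, hS⟩ := h Finset.univ
    exact ⟨x, hx, fun a => hS a (Finset.mem_univ a)⟩
  intro S
  induction S using Finset.induction_on with
  | empty => obtain ⟨x, hx⟩ := exists_ne (0 : V); exact ⟨x, hx, by simp⟩
  | insert b S _ ih =>
    obtain ⟨x, hx, hS⟩ := ih
    have hP : ∃ k, ((A b - 1) ^ k : Module.End F V) x = 0 := ⟨p, by simp [hnil]⟩
    obtain ⟨k, hk⟩ : ∃ k, Nat.find hP = k + 1 := ⟨Nat.find hP - 1, by
      have : Nat.find hP ≠ 0 := fun h => hx (by simpa [h] using Nat.find_spec hP)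
      omega⟩
    refine ⟨((A b - 1) ^ k : Module.End F V) x, Nat.find_min hP (by omega), fun a ha => ?_⟩
    rcases Finset.mem_insert.1 ha with rfl | ha
    · have e := Nat.find_spec hP
      rw [hk, pow_succ', Module.End.mul_apply, LinearMap.sub_apply, Module.End.one_apply, sub_eq_zero] at e
      exact e
    · have hc : Commute (A a) ((A b - 1) ^ k : Module.End F V) :=
        ((show Commute (A a) (A b) by rw [Commute, SemiconjBy, ← hadd, ← hadd, add_comm]).sub_right
          (Commute.one_right _)).pow_right k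
      rw [← Module.End.mul_apply, hc.eq, Module.End.mul_apply, hS a ha]

end Unipotent

variable [Fintype F]

/-- No proper nonzero invariant subspace. -/
def Irr {G : Type*} [Monoid G] (ρ : Representation F G V) : Prop :=
  Nontrivial V ∧ ∀ W : Submodule F V, (∀ g, ∀ x ∈ W, ρ g x ∈ W) → W = ⊥ ∨ W = ⊤

variable (ρ : Representation F G[F] V) (ρ' : Representation F G[F] V')

/-- The Hecke operator. -/
noncomputable def hecke : Module.End F V := ∑ a : F, ρ (uu a * ww)

/-- A vector fixed by the upper unitriangular group, with given weight and eigenvalue of the Hecke operator. -/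
structure Typed (k : ℕ) (μ : F) (v : V) : Prop where
  fixed : ∀ a, ρ (uu a) v = v
  weight : ∀ c : Fˣ, ρ (tor c) v = (c : F) ^ k • v
  eigen : hecke ρ v = μ • v

theorem hecke_apply (x : V) : hecke ρ x = ∑ a : F, ρ (uu a * ww) x := by
  simp [hecke, LinearMap.sum_apply]

theorem hecke_fixed (b : F) (x : V) : ρ (uu b) (hecke ρ x) = hecke ρ x := by
  rw [hecke_apply, map_sum]
  simp only [← Module.End.mul_apply, ← map_mul, ← mul_assoc, uu_add]
  exact Equiv.sum_comp (Equiv.addLeft b) (fun a => ρ (uu a * ww) x)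

theorem hecke_weight (c : Fˣ) (x : V) : ρ (tor c) (hecke ρ x) = hecke ρ (ρ (tor c⁻¹) x) := by
  classical
  rw [hecke_apply, hecke_apply, map_sum]
  simp only [← Module.End.mul_apply, ← map_mul]
  refine Fintype.sum_equiv (Equiv.mulLeft₀ ((c : F) * c) (mul_ne_zero c.ne_zero c.ne_zero)) _ _ fun a => ?_
  rw [← mul_assoc, tor_uu, mul_assoc, tor_ww, ← mul_assoc]
  rfl

theorem sum_units_pow (k : ℕ) (hk : k < Fintype.card F - 1) [DecidableEq F] :
    ∑ c : Fˣ, (c : F) ^ k = if k = 0 then -1 else 0 := by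
  rw [← if_congr (show Fintype.card F - 1 ∣ k ↔ k = 0 from
    ⟨fun h => Nat.eq_zero_of_dvd_of_lt h hk, fun h => h ▸ dvd_zero _⟩) rfl rfl, ← FiniteField.sum_pow_units F k]

/-- The square of the Hecke operator. -/
theorem hecke_sq {k : ℕ} (hk : k < Fintype.card F - 1) {v : V} (hfix : ∀ a, ρ (uu a) v = v)
    (hwt : ∀ c : Fˣ, ρ (tor c) v = (c : F) ^ k • v) :
    hecke ρ (hecke ρ v) = (if k = 0 then -1 else 0 : F) • hecke ρ v := by
  classical
  have hcard : (Fintype.card F : F) = 0 := FiniteField.cast_card_eq_zero F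
  have hsplit : ∀ f : F → V, ∑ a, f a = f 0 + ∑ c : Fˣ, f c := by
    intro f
    rw [Fintype.sum_eq_add_sum_compl 0]
    congr 1
    refine Finset.sum_bij (fun a ha => Units.mk0 a (by simpa using ha)) (fun a _ => Finset.mem_univ _)
      (fun a _ b _ h => congrArg Units.val h) (fun c _ => ⟨(c : F), by simp [c.ne_zero], Units.ext rfl⟩) (fun a _ => rfl)
  rw [hecke_apply]
  simp only [hecke_apply ρ v, map_sum]
  rw [Finset.sum_comm, hsplit]
  have h0 : ∑ a : F, ρ (uu a * ww) (ρ (uu 0 * ww) v) = 0 := by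
    have e : ∀ a : F, ρ (uu a * ww) (ρ (uu 0 * ww) v) = ((-1 : Fˣ) : F) ^ k • v := fun a => by
      rw [← Module.End.mul_apply, ← map_mul, uu_zero, one_mul, mul_assoc, ww_sq, map_mul, Module.End.mul_apply, hwt,
        map_smul, hfix]
    simp only [e, Finset.sum_const, Finset.card_univ, ← Nat.cast_smul_eq_nsmul F, hcard, zero_smul]
  rw [h0, zero_add, ← sum_units_pow k hk, Finset.sum_smul]
  refine Fintype.sum_equiv (Equiv.neg Fˣ) _ _ fun b => ?_
  rw [Finset.smul_sum]
  refine Fintype.sum_equiv (Equiv.addRight (-((b⁻¹ : Fˣ) : F))) _ _ fun a => ?_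
  rw [← Module.End.mul_apply, ← map_mul, show uu a * ww * (uu (b : F) * ww) = uu a * (ww * uu (b : F) * ww) by group,
    ww_uu_ww, show uu a * (uu (-((b⁻¹ : Fˣ) : F)) * ww * tor (-b) * uu (-((b⁻¹ : Fˣ) : F))) =
      (uu a * uu (-((b⁻¹ : Fˣ) : F))) * ww * (tor (-b) * uu (-((b⁻¹ : Fˣ) : F))) by group, uu_add, map_mul,
    Module.End.mul_apply, map_mul ρ (tor (-b)), Module.End.mul_apply, hfix, hwt, map_smul]
  simp

variable [CharP F 3] [FiniteDimensional F V]

/-- Every nonzero representation has a typed vector. -/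
theorem exists_typed [Nontrivial V] :
    ∃ k < Fintype.card F - 1, ∃ μ : F, (μ = 0 ∨ (μ = -1 ∧ k = 0)) ∧ ∃ v ≠ 0, Typed ρ k μ v := by
  classical
  haveI : Fact (Nat.Prime 3) := ⟨Nat.prime_three⟩
  obtain ⟨x, hx, hxfix⟩ := common_fixed (p := 3) (fun a => ρ (uu a))
    (fun a b => by simp only [← uu_add, map_mul]) (by simp only [uu_zero, map_one])
  have hfixT : ∀ (c : Fˣ) (y : V), (∀ a, ρ (uu a) y = y) → ∀ a, ρ (uu a) (ρ (tor c) y) = ρ (tor c) y := by
    intro c y hy a
    have e : uu a * tor c = tor c * uu (((c⁻¹ : Fˣ) : F) * (c⁻¹ : Fˣ) * a) := by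
      rw [tor_uu]
      congr 2
      simp [mul_assoc, mul_comm, mul_left_comm]
    rw [← Module.End.mul_apply, ← map_mul, e, map_mul, Module.End.mul_apply, hy]
  obtain ⟨g, hg⟩ := IsCyclic.exists_generator (α := Fˣ)
  have hqq : 0 < Fintype.card F - 1 := by have := Fintype.one_lt_card (α := F); omega
  -- an eigenvector of a generator of the torus among the fixed vectors
  have key : ∃ (ε : Fˣ) (y : V), y ≠ 0 ∧ (∀ a, ρ (uu a) y = y) ∧ ρ (tor g) y = (ε : F) • y := by
    by_contra hno
    push Not at hno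
    have hinj : ∀ (m : Multiset Fˣ), ∀ y : V, (∀ a, ρ (uu a) y = y) → y ≠ 0 →
        aeval (ρ (tor g)) (m.map fun ε : Fˣ => X - C (ε : F)).prod y ≠ 0 ∧
          ∀ a, ρ (uu a) (aeval (ρ (tor g)) (m.map fun ε : Fˣ => X - C (ε : F)).prod y) =
            aeval (ρ (tor g)) (m.map fun ε : Fˣ => X - C (ε : F)).prod y := by
      intro m
      induction m using Multiset.induction_on with
      | empty => intro y hy hy0; simp [hy0, hy]
      | cons ε m ih =>
        intro y hy hy0
        obtain ⟨h1, h2⟩ := ih y hy hy0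
        simp only [Multiset.map_cons, Multiset.prod_cons, map_mul, Module.End.mul_apply]
        generalize aeval (ρ (tor g)) (m.map fun ε : Fˣ => X - C (ε : F)).prod y = z at h1 h2 ⊢
        have e : aeval (ρ (tor g)) (X - C (ε : F)) z = ρ (tor g) z - (ε : F) • z := by
          simp [Module.algebraMap_end_apply]
        rw [e]
        refine ⟨fun h => hno ε z h1 h2 (sub_eq_zero.1 h), fun a => ?_⟩
        rw [map_sub, map_smul, hfixT g z h2, h2]
    have hprod : ((Finset.univ : Finset Fˣ).val.map fun ε : Fˣ => X - C (ε : F)).prod =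
        X ^ (Fintype.card F - 1) - 1 := by
      show ∏ ε : Fˣ, (X - C (ε : F)) = _
      haveI : NeZero (Fintype.card F - 1) := ⟨hqq.ne'⟩
      have hgp : IsPrimitiveRoot ((g : Fˣ) : F) (Fintype.card F - 1) := by
        rw [IsPrimitiveRoot.coe_units_iff, ← Fintype.card_units, ← Nat.card_eq_fintype_card,
          ← orderOf_eq_card_of_forall_mem_zpowers hg]
        exact IsPrimitiveRoot.orderOf g
      rw [X_pow_sub_one_eq_prod hqq hgp]
      refine Finset.prod_bij (fun c _ => (c : F)) (fun c _ => ?_) (fun a _ b _ h => Units.ext h) (fun b hb => ?_)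
        (fun c _ => rfl)
      · rw [mem_nthRootsFinset hqq, ← Units.val_pow_eq_pow_val, ← Fintype.card_units, pow_card_eq_one,
          Units.val_one]
      · rw [mem_nthRootsFinset hqq] at hb
        exact ⟨Units.mk0 b (fun h => by simp [h, zero_pow hqq.ne'] at hb), Finset.mem_univ _, rfl⟩
    have h0 := (hinj (Finset.univ : Finset Fˣ).val x hxfix hx).1
    rw [hprod] at h0
    apply h0
    have ht : ρ (tor g) ^ (Fintype.card F - 1) = 1 := by
      have e : ∀ m : ℕ, tor g ^ m = tor (g ^ m) := by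
        intro m
        induction m with
        | zero => rw [pow_zero, pow_zero, tor_one]
        | succ m ih => rw [pow_succ, ih, tor_mul, pow_succ]
      rw [← map_pow, e, ← Fintype.card_units, pow_card_eq_one]
      rw [tor_one, map_one]
    simp [ht]
  obtain ⟨ε, y, hy0, hyfix, hyg⟩ := key
  obtain ⟨j, hj⟩ := Subgroup.mem_zpowers_iff.1 (hg ε)
  set k := (j % ((Fintype.card F - 1 : ℕ) : ℤ)).toNat with hkdef
  have hkq : k < Fintype.card F - 1 := by
    have := Int.emod_lt_of_pos j (show (0 : ℤ) < ((Fintype.card F - 1 : ℕ) : ℤ) by exact_mod_cast hqq)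
    have := Int.emod_nonneg j (show ((Fintype.card F - 1 : ℕ) : ℤ) ≠ 0 by exact_mod_cast hqq.ne')
    omega
  have hgk : g ^ k = ε := by
    rw [← hj, ← zpow_natCast, hkdef, Int.toNat_of_nonneg (Int.emod_nonneg j (by exact_mod_cast hqq.ne')),
      ← Fintype.card_units, zpow_eq_zpow_emod' (x := g) (n := Fintype.card Fˣ) j pow_card_eq_one]
  have hwt : ∀ c : Fˣ, ρ (tor c) y = (c : F) ^ k • y := by
    intro c
    obtain ⟨m, rfl⟩ : c ∈ Submonoid.powers g := mem_powers_iff_mem_zpowers.2 (hg c)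
    induction m with
    | zero =>
      simp only [pow_zero, Units.val_one, one_pow, one_smul]
      rw [tor_one, map_one]
      rfl
    | succ m ih =>
      simp only at ih
      simp only [pow_succ]
      rw [← tor_mul, map_mul, Module.End.mul_apply, hyg, map_smul, ih, smul_smul, ← hgk, Units.val_mul, mul_pow,
        Units.val_pow_eq_pow_val]
      simp [mul_comm]
  have hsq := hecke_sq ρ hkq hyfix hwt
  by_cases hh : hecke ρ y = 0
  · exact ⟨k, hkq, 0, Or.inl rfl, y, hy0, hyfix, hwt, by rw [hh, zero_smul]⟩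
  set k' := (Fintype.card F - 1 - k) % (Fintype.card F - 1) with hk'
  have hwt' : ∀ c : Fˣ, ρ (tor c) (hecke ρ y) = (c : F) ^ k' • hecke ρ y := by
    intro c
    rw [hecke_weight, hwt, map_smul]
    congr 1
    have hc : (c : F) ^ (Fintype.card F - 1) = 1 := by
      rw [← Units.val_pow_eq_pow_val, ← Fintype.card_units, pow_card_eq_one, Units.val_one]
    rw [hk', ← pow_eq_pow_mod _ hc, ← Units.val_pow_eq_pow_val, inv_pow, Units.val_inv_eq_inv_val,
      Units.val_pow_eq_pow_val]
    refine inv_eq_of_mul_eq_one_right ?_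
    rw [← pow_add, Nat.add_sub_cancel' hkq.le, hc]
  have hk'q : k' < Fintype.card F - 1 := Nat.mod_lt _ hqq
  by_cases hk0 : k = 0
  · rw [if_pos hk0] at hsq
    exact ⟨k', hk'q, -1, Or.inr ⟨rfl, by simp [hk', hk0]⟩, _, hh, fun b => hecke_fixed ρ b y, hwt', hsq⟩
  · rw [if_neg hk0] at hsq
    exact ⟨k', hk'q, 0, Or.inl rfl, _, hh, fun b => hecke_fixed ρ b y, hwt', hsq⟩

variable {ρ ρ'}

omit [CharP F 3] [FiniteDimensional F V] in
/-- A subspace stable under the lower unitriangular translates of a typed vector is invariant. -/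
theorem span_invariant {k : ℕ} {μ : F} {v : V} (hv : Typed ρ k μ v) (g : G[F]) :
    ∀ x ∈ Submodule.span F (Set.range fun c => ρ (ll c) v), ρ g x ∈ Submodule.span F (Set.range fun c => ρ (ll c) v) := by
  classical
  set W := Submodule.span F (Set.range fun c => ρ (ll c) v) with hW
  have hl : ∀ c, ρ (ll c) v ∈ W := fun c => Submodule.subset_span ⟨c, rfl⟩
  have hv' : v ∈ W := by simpa [ll_zero] using hl 0
  have hll : ∀ e, ∀ x ∈ W, ρ (ll e) x ∈ W := by
    intro e x hx
    refine Submodule.span_induction ?_ (by simp) (fun a b _ _ ha hb => by rw [map_add]; exact add_mem ha hb)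
      (fun r a _ ha => by rw [map_smul]; exact Submodule.smul_mem _ r ha) hx
    rintro _ ⟨c, rfl⟩
    rw [← Module.End.mul_apply, ← map_mul, ll_add]
    exact hl _
  have hwv : ρ ww v ∈ W := by
    have e := hv.eigen
    rw [hecke_apply, Fintype.sum_eq_add_sum_compl 0, uu_zero, one_mul, ← eq_sub_iff_add_eq] at e
    rw [e]
    refine sub_mem (Submodule.smul_mem _ _ hv') (Submodule.sum_mem _ fun a ha => ?_)
    have ha0 : a ≠ 0 := by simpa using ha
    have := uu_ww (Units.mk0 a ha0)
    rw [Units.val_mk0] at this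
    rw [this, map_mul, Module.End.mul_apply, hv.fixed, map_mul, Module.End.mul_apply, hv.weight, map_smul]
    exact Submodule.smul_mem _ _ (hl _)
  have hall : ∀ h : G[F], ρ h v ∈ W := by
    intro h
    by_cases h0 : h.1 0 0 = 0
    · obtain ⟨e, y, rfl⟩ := other_cell h h0
      rw [map_mul, Module.End.mul_apply, map_mul, Module.End.mul_apply, hv.weight, map_smul]
      exact hll e _ (Submodule.smul_mem _ _ hwv)
    · rw [big_cell h (Units.mk0 _ h0) rfl, map_mul, Module.End.mul_apply, hv.fixed, map_mul, Module.End.mul_apply,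
        hv.weight, map_smul]
      exact Submodule.smul_mem _ _ (hl _)
  intro x hx
  refine Submodule.span_induction ?_ (by simp) (fun a b _ _ ha hb => by rw [map_add]; exact add_mem ha hb)
    (fun r a _ ha => by rw [map_smul]; exact Submodule.smul_mem _ r ha) hx
  rintro _ ⟨c, rfl⟩
  rw [← Module.End.mul_apply, ← map_mul]
  exact hall _

omit [CharP F 3] [FiniteDimensional F V] in
theorem span_eq_top (h : Irr ρ) {k : ℕ} {μ : F} {v : V} (hv : Typed ρ k μ v) (hv0 : v ≠ 0) :
    Submodule.span F (Set.range fun c => ρ (ll c) v) = ⊤ := by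
  refine (h.2 _ (span_invariant hv)).resolve_left fun hb => hv0 ?_
  have : v ∈ Submodule.span F (Set.range fun c => ρ (ll c) v) :=
    Submodule.subset_span ⟨0, by simp [ll_zero]⟩
  rwa [hb, Submodule.mem_bot] at this

theorem exists_functional [Nontrivial V] (ρ : Representation F G[F] V) :
    ∃ φ : V →ₗ[F] F, φ ≠ 0 ∧ ∀ c x, φ (ρ (ll c) x) = φ x := by
  haveI : Fact (Nat.Prime 3) := ⟨Nat.prime_three⟩
  obtain ⟨φ, hφ, h⟩ := common_fixed (p := 3) (V := Module.Dual F V) (fun a => (ρ (ll a)).dualMap)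
    (fun a b => by
      rw [add_comm, ← ll_add, map_mul]
      rfl) (by rw [ll_zero, map_one]; rfl)
  exact ⟨φ, hφ, fun c x => LinearMap.congr_fun (h c) x⟩

variable [FiniteDimensional F V']

/-- Irreducible representations with typed vectors of the same type are isomorphic. -/
theorem exists_iso (h : Irr ρ) (h' : Irr ρ') {k : ℕ} {μ : F} {v : V} {v' : V'} (hv : Typed ρ k μ v)
    (hv' : Typed ρ' k μ v') (hv0 : v ≠ 0) (hv0' : v' ≠ 0) :
    ∃ e : V ≃ₗ[F] V', ∀ g x, e (ρ g x) = ρ' g (e x) := by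
  classical
  haveI := h.1
  haveI := h'.1
  let σ : Representation F G[F] (V × V') :=
    { toFun := fun g => (ρ g).prodMap (ρ' g)
      map_one' := by simp
      map_mul' := fun g g' => by simp [LinearMap.prodMap_mul] }
  have hσ : ∀ g x, σ g x = (ρ g x.1, ρ' g x.2) := fun g x => rfl
  have hvv : Typed σ k μ (v, v') := by
    refine ⟨fun a => by rw [hσ, hv.fixed, hv'.fixed], fun c => by rw [hσ, hv.weight, hv'.weight]; rfl, ?_⟩
    have e1 := hv.eigen
    have e2 := hv'.eigen
    rw [hecke_apply] at e1 e2 ⊢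
    simp only [hσ]
    refine Prod.ext ?_ ?_
    · rw [Prod.fst_sum]; exact e1
    · rw [Prod.snd_sum]; exact e2
  set W := Submodule.span F (Set.range fun c => σ (ll c) (v, v')) with hW
  have hWinv := span_invariant hvv
  have hWv : (v, v') ∈ W := Submodule.subset_span ⟨0, by simp [ll_zero]⟩
  have hne : W ≠ ⊤ := by
    obtain ⟨φ, hφ, hφl⟩ := exists_functional ρ
    obtain ⟨φ', hφ', hφl'⟩ := exists_functional ρ'
    have h1 : φ v ≠ 0 := by
      intro hz
      apply hφ
      refine LinearMap.ext_on_range (span_eq_top h hv hv0) fun c => ?_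
      rw [hφl, hz, LinearMap.zero_apply]
    have h1' : φ' v' ≠ 0 := by
      intro hz
      apply hφ'
      refine LinearMap.ext_on_range (span_eq_top h' hv' hv0') fun c => ?_
      rw [hφl', hz, LinearMap.zero_apply]
    intro htop
    let Φ : V × V' →ₗ[F] F := φ' v' • φ.comp (LinearMap.fst F V V') - φ v • φ'.comp (LinearMap.snd F V V')
    have hΦ : Φ = 0 := LinearMap.ext_on_range htop fun c => by
      simp [Φ, hσ, hφl, hφl', mul_comm]
    have := LinearMap.congr_fun hΦ (v, 0)
    simp [Φ, h1, h1'] at this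
  let W2 : Submodule F V' := W.comap (LinearMap.inr F V V')
  have hW2 : W2 = ⊥ := by
    refine (h'.2 W2 fun g x hx => ?_).resolve_right fun htop => hne ?_
    · have := hWinv g _ hx
      rw [hσ] at this
      simpa [W2] using this
    · have hfst : W.map (LinearMap.fst F V V') = ⊤ := by
        refine (h.2 _ fun g x hx => ?_).resolve_left fun hb => hv0 ?_
        · obtain ⟨y, hy, rfl⟩ := hx
          exact ⟨σ g y, hWinv g y hy, rfl⟩
        · have : v ∈ W.map (LinearMap.fst F V V') := ⟨_, hWv, rfl⟩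
          rwa [hb, Submodule.mem_bot] at this
      rw [eq_top_iff]
      rintro ⟨a, b⟩ -
      obtain ⟨⟨a', b'⟩, hy, rfl⟩ : a ∈ W.map (LinearMap.fst F V V') := hfst ▸ Submodule.mem_top
      have hb : (0, b - b') ∈ W := by
        have : b - b' ∈ W2 := htop ▸ Submodule.mem_top
        exact this
      simpa using add_mem hy hb
  let W1 : Submodule F V := W.comap (LinearMap.inl F V V')
  have hW1 : W1 = ⊥ := by
    refine (h.2 W1 fun g x hx => ?_).resolve_right fun htop => hne ?_
    · have := hWinv g _ hx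
      rw [hσ] at this
      simpa [W1] using this
    · have hsnd : W.map (LinearMap.snd F V V') = ⊤ := by
        refine (h'.2 _ fun g x hx => ?_).resolve_left fun hb => hv0' ?_
        · obtain ⟨y, hy, rfl⟩ := hx
          exact ⟨σ g y, hWinv g y hy, rfl⟩
        · have : v' ∈ W.map (LinearMap.snd F V V') := ⟨_, hWv, rfl⟩
          rwa [hb, Submodule.mem_bot] at this
      rw [eq_top_iff]
      rintro ⟨a, b⟩ -
      obtain ⟨⟨a', b'⟩, hy, rfl⟩ : b ∈ W.map (LinearMap.snd F V V') := hsnd ▸ Submodule.mem_top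
      have hb : (a - a', 0) ∈ W := by
        have : a - a' ∈ W1 := htop ▸ Submodule.mem_top
        exact this
      simpa using add_mem hy hb
  let f1 : W →ₗ[F] V := (LinearMap.fst F V V').comp W.subtype
  let f2 : W →ₗ[F] V' := (LinearMap.snd F V V').comp W.subtype
  have hb1 : Function.Bijective f1 := by
    refine ⟨LinearMap.ker_eq_bot.1 (LinearMap.ker_eq_bot'.2 fun ⟨⟨a, b⟩, hw⟩ hz => ?_), ?_⟩
    · simp only [f1, LinearMap.comp_apply, Submodule.subtype_apply, LinearMap.fst_apply] at hz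
      subst hz
      have : b ∈ W2 := hw
      rw [hW2, Submodule.mem_bot] at this
      subst this
      rfl
    · rw [← LinearMap.range_eq_top]
      refine (h.2 _ fun g x hx => ?_).resolve_left fun hb => hv0 ?_
      · obtain ⟨⟨y, hy⟩, rfl⟩ := hx
        exact ⟨⟨σ g y, hWinv g y hy⟩, rfl⟩
      · have : v ∈ LinearMap.range f1 := ⟨⟨_, hWv⟩, rfl⟩
        rwa [hb, Submodule.mem_bot] at this
  have hb2 : Function.Bijective f2 := by
    refine ⟨LinearMap.ker_eq_bot.1 (LinearMap.ker_eq_bot'.2 fun ⟨⟨a, b⟩, hw⟩ hz => ?_), ?_⟩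
    · simp only [f2, LinearMap.comp_apply, Submodule.subtype_apply, LinearMap.snd_apply] at hz
      subst hz
      have : a ∈ W1 := hw
      rw [hW1, Submodule.mem_bot] at this
      subst this
      rfl
    · rw [← LinearMap.range_eq_top]
      refine (h'.2 _ fun g x hx => ?_).resolve_left fun hb => hv0' ?_
      · obtain ⟨⟨y, hy⟩, rfl⟩ := hx
        exact ⟨⟨σ g y, hWinv g y hy⟩, rfl⟩
      · have : v' ∈ LinearMap.range f2 := ⟨⟨_, hWv⟩, rfl⟩
        rwa [hb, Submodule.mem_bot] at this
  refine ⟨(LinearEquiv.ofBijective f1 hb1).symm.trans (LinearEquiv.ofBijective f2 hb2), fun g x => ?_⟩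
  obtain ⟨⟨w, hw⟩, rfl⟩ := hb1.2 x
  have e : f1 ⟨σ g w, hWinv g w hw⟩ = ρ g (f1 ⟨w, hw⟩) := rfl
  rw [← e]
  simp only [LinearEquiv.trans_apply]
  rw [LinearEquiv.ofBijective_symm_apply_apply, LinearEquiv.ofBijective_symm_apply_apply]
  rfl

end Cfsg.Agent.SL2Defining
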