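/-
Every irreducible representation of SL(2, q), q a power of three, over the field with q elements is a twisted tensor
product; their typed vectors.
-/
import Cfsg.Agent.Lib.SL2Defining.Simple

set_option autoImplicit false
set_option linter.style.haveILetI false

namespace Cfsg.Agent.SL2Defining

open Matrix Polynomial

local notation "G[" F "]" => Matrix.SpecialLinearGroup (Fin 2) F

section SymEntries

variable {R : Type*} [CommRing R]

theorem sym_row_uu : ∀ (D : Fin 3) (a : R) (j : Fin (D.val + 1)), sym D !![1, a; 0, 1] 0 j = a ^ j.val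
  | ⟨0, _⟩, a, j => by fin_cases j; simp [sym]
  | ⟨1, _⟩, a, j => by fin_cases j <;> simp [sym]
  | ⟨2, _⟩, a, j => by fin_cases j <;> simp [sym, sq]

theorem sym_col_ll : ∀ (D : Fin 3) (a : R) (j : Fin (D.val + 1)),
    sym D !![1, 0; a, 1] j 0 = (if D.val = 2 ∧ j.val = 1 then 2 else 1) * a ^ j.val
  | ⟨0, _⟩, a, j => by fin_cases j; simp [sym]
  | ⟨1, _⟩, a, j => by fin_cases j <;> simp [sym]
  | ⟨2, _⟩, a, j => by fin_cases j <;> simp [sym, sq]

theorem sym_zero_zero : ∀ (D : Fin 3) (g : Matrix (Fin 2) (Fin 2) R), sym D g 0 0 = g 0 0 ^ D.val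
  | ⟨0, _⟩, g => by simp [sym]
  | ⟨1, _⟩, g => by simp [sym]
  | ⟨2, _⟩, g => by simp [sym, sq]

end SymEntries

variable {F : Type*} [Field F] [Fintype F] [CharP F 3] {n : ℕ}

set_option linter.unusedSectionVars false

local instance instFactPrimeThreeClassify : Fact (Nat.Prime 3) := ⟨Nat.prime_three⟩

variable (d : Fin n → Fin 3)

/-- The first coordinate. -/
def e0 : Idx d := fun _ => 0

/-- The number of a coordinate. -/
def num (e : Idx d) : ℕ := ∑ i, (e i).val * 3 ^ i.val

theorem num_le (e : Idx d) : num d e ≤ top 3 d :=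
  Finset.sum_le_sum fun i _ => Nat.mul_le_mul_right _ (by have := (e i).2; omega)

theorem num_injective : Function.Injective (num d) := by
  intro e f h
  have key : ∀ e : Idx d, num d e =
      (finFunctionFinEquiv (fun i => (⟨(e i).val, by have := (e i).2; have := (d i).2; omega⟩ : Fin 3))).val := by
    intro e
    rw [finFunctionFinEquiv_apply]
    rfl
  rw [key, key, Fin.val_inj] at h
  have h' := finFunctionFinEquiv.injective h
  funext i
  exact Fin.ext (by simpa using congrArg Fin.val (congrFun h' i))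

theorem top_lt (hcard : Fintype.card F = 3 ^ n) : top 3 d ≤ Fintype.card F - 1 := by
  have e : top 3 d = (finFunctionFinEquiv d).val := by rw [finFunctionFinEquiv_apply]; rfl
  rw [e, hcard]
  have := (finFunctionFinEquiv d).2
  omega

theorem sum_pow_eq_zero (hcard : Fintype.card F = 3 ^ n) (y : Idx d → F)
    (h : ∀ a : F, ∑ e, y e * a ^ num d e = 0) : y = 0 := by
  classical
  let P : F[X] := ∑ e, C (y e) * X ^ num d e
  have hdeg : P.natDegree < Fintype.card F := by
    refine lt_of_le_of_lt (natDegree_sum_le_of_forall_le _ _ (n := Fintype.card F - 1) fun e _ => ?_)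
      (by have := Fintype.card_pos (α := F); omega)
    exact (natDegree_C_mul_X_pow_le _ _).trans ((num_le d e).trans (top_lt d hcard))
  have hP : P = 0 := by
    refine eq_zero_of_natDegree_lt_card_of_eval_eq_zero P (f := id) Function.injective_id (fun a => ?_) hdeg
    simpa [P, eval_finsetSum] using h a
  funext e
  have := congrArg (fun Q : F[X] => Q.coeff (num d e)) hP
  simpa [P, coeff_C_mul, coeff_X_pow, (num_injective d).eq_iff] using this

theorem iterate_uu (a : F) (i : ℕ) : (!![1, a; 0, 1] : Matrix (Fin 2) (Fin 2) F).map (iterateFrobenius F 3 i) =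
    !![1, a ^ 3 ^ i; 0, 1] := by
  ext x y; fin_cases x <;> fin_cases y <;> simp [iterateFrobenius_def]

theorem iterate_ll (a : F) (i : ℕ) : (!![1, 0; a, 1] : Matrix (Fin 2) (Fin 2) F).map (iterateFrobenius F 3 i) =
    !![1, 0; a ^ 3 ^ i, 1] := by
  ext x y; fin_cases x <;> fin_cases y <;> simp [iterateFrobenius_def]

theorem rep_row_uu (a : F) (f : Idx d) : rep 3 d !![1, a; 0, 1] (e0 d) f = a ^ num d f := by
  simp only [rep, Matrix.of_apply, iterate_uu, e0, sym_row_uu, ← pow_mul, num]
  rw [← Finset.prod_pow_eq_pow_sum]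
  exact Finset.prod_congr rfl fun i _ => by rw [mul_comm]

theorem rep_col_ll (a : F) (f : Idx d) : rep 3 d !![1, 0; a, 1] f (e0 d) =
    (∏ i, if (d i).val = 2 ∧ (f i).val = 1 then (2 : F) else 1) * a ^ num d f := by
  simp only [rep, Matrix.of_apply, iterate_ll, e0, sym_col_ll, ← pow_mul, num, Finset.prod_mul_distrib]
  congr 1
  rw [← Finset.prod_pow_eq_pow_sum]
  exact Finset.prod_congr rfl fun i _ => by rw [mul_comm]

/-- The distinguished vector. -/
noncomputable def v0 : Idx d → F := Pi.single (e0 d) 1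

/-- The eigenvalue of the Hecke operator on the distinguished vector. -/
noncomputable def mu : F := ∑ a : F, a ^ top 3 d

theorem v0_ne : (v0 d : Idx d → F) ≠ 0 := fun h => by simpa [v0] using congrFun h (e0 d)

theorem model_v0 (g : G[F]) (f : Idx d) : model 3 d g (v0 d) f = rep 3 d g.1 f (e0 d) := by
  rw [model_apply, v0, Matrix.mulVec_single_one]
  rfl

/-- A vector fixed by the upper unitriangular group is a multiple of the distinguished one. -/
theorem fixed_eq (hcard : Fintype.card F = 3 ^ n) (x : Idx d → F) (hx : ∀ a, model 3 d (uu a) x = x) :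
    x = x (e0 d) • v0 d := by
  classical
  have h : (fun f => if f = e0 d then (0 : F) else x f) = 0 := by
    refine sum_pow_eq_zero d hcard _ fun a => ?_
    have e := congrFun (hx a) (e0 d)
    rw [model_apply, uu_coe, Matrix.mulVec, dotProduct] at e
    simp only [rep_row_uu] at e
    have hz : num d (e0 d) = 0 := by simp [num, e0]
    rw [← Finset.add_sum_erase _ _ (Finset.mem_univ (e0 d)), hz, pow_zero, one_mul, add_eq_left] at e
    rw [← Finset.add_sum_erase _ _ (Finset.mem_univ (e0 d)), if_pos rfl, zero_mul, zero_add, ← e]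
    refine Finset.sum_congr rfl fun f hf => ?_
    rw [if_neg (Finset.mem_erase.1 hf).1, mul_comm]
  funext f
  rcases eq_or_ne f (e0 d) with rfl | hf
  · simp [v0]
  · have := congrFun h f
    simp only [if_neg hf, Pi.zero_apply] at this
    simp [v0, hf, this]

theorem typed_v0 (hcard : Fintype.card F = 3 ^ n) : Typed (model 3 d) (top 3 d) (mu d) (v0 d : Idx d → F) := by
  classical
  have hfix : ∀ a : F, model 3 d (uu a) (v0 d) = v0 d := by
    intro a
    funext f
    rw [model_v0, uu_coe]
    simp only [rep, Matrix.of_apply, iterate_uu, e0]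
    rcases eq_or_ne f (e0 d) with rfl | hf
    · simp [v0, e0, sym_zero_zero]
    · obtain ⟨i, hi⟩ := Function.ne_iff.1 hf
      rw [v0, Pi.single_eq_of_ne hf]
      refine Finset.prod_eq_zero (Finset.mem_univ i) ?_
      have key : ∀ (D : Fin 3) (b : F) (j : Fin (D.val + 1)), j ≠ 0 → sym D !![1, b; 0, 1] j 0 = 0
        | ⟨0, _⟩, b, j, h => by fin_cases j; exact absurd rfl h
        | ⟨1, _⟩, b, j, h => by fin_cases j <;> simp [sym] at h ⊢
        | ⟨2, _⟩, b, j, h => by fin_cases j <;> simp [sym] at h ⊢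
      exact key _ _ _ hi
  refine ⟨hfix, fun c => ?_, ?_⟩
  · funext f
    rw [model_v0, tor_coe, rep_diag, Matrix.diagonal_apply]
    rcases eq_or_ne f (e0 d) with rfl | hf
    · rw [if_pos rfl]
      have : wt 3 d (e0 d) = (top 3 d : ℤ) := by simp [wt, e0, top]
      simp [this, v0]
    · simp [hf, v0]
  · rw [fixed_eq d hcard (hecke (model 3 d) (v0 d)) fun a => hecke_fixed (model 3 d) a (v0 d)]
    congr 1
    rw [hecke_apply, Finset.sum_apply, mu, ← Equiv.sum_comp (Equiv.neg F) (fun a => a ^ top 3 d)]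
    refine Finset.sum_congr rfl fun a _ => ?_
    rw [model_v0, top, ← Finset.prod_pow_eq_pow_sum, rep, Matrix.of_apply]
    refine Finset.prod_congr rfl fun i _ => ?_
    rw [e0, sym_zero_zero, Matrix.map_apply, iterateFrobenius_def, ← pow_mul, mul_comm]
    have e : ((uu a * ww : G[F]) : Matrix (Fin 2) (Fin 2) F) 0 0 = -a := by
      show ((uu a).1 * (ww : G[F]).1) 0 0 = -a
      simp [uu, ww]
    rw [show ((uu a * ww : G[F]).1) 0 0 = -a from e, Equiv.neg_apply]

theorem span_v0 (hcard : Fintype.card F = 3 ^ n) :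
    Submodule.span F (Set.range fun c => model 3 d (ll c) (v0 d : Idx d → F)) = ⊤ := by
  classical
  refine Submodule.dualAnnihilator_eq_bot_iff.1 ((Submodule.eq_bot_iff _).2 fun φ hφ => ?_)
  rw [Submodule.mem_dualAnnihilator] at hφ
  have hz : (fun f : Idx d => φ (Pi.single f 1) *
      ∏ i, if (d i).val = 2 ∧ (f i).val = 1 then (2 : F) else 1) = 0 := by
    refine sum_pow_eq_zero d hcard _ fun a => ?_
    have e := hφ _ (Submodule.subset_span ⟨a, rfl⟩)
    rw [LinearMap.pi_apply_eq_sum_univ φ] at e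
    refine Eq.trans (Finset.sum_congr rfl fun f _ => ?_) e
    have hs : (fun j => if f = j then (1 : F) else 0) = Pi.single f 1 := by
      funext j
      simp [Pi.single_apply, eq_comm]
    beta_reduce
    rw [hs, model_v0, ll_coe, rep_col_ll, smul_eq_mul]
    ring
  refine LinearMap.pi_ext' fun f => LinearMap.ext_ring ?_
  have h2 : (2 : F) ≠ 0 := by
    intro h
    have := (CharP.cast_eq_zero_iff F 3 2).1 (by exact_mod_cast h)
    norm_num at this
  have hp : (∏ i, if (d i).val = 2 ∧ (f i).val = 1 then (2 : F) else 1) ≠ 0 :=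
    Finset.prod_ne_zero_iff.2 fun i _ => by split_ifs <;> simp [h2]
  simpa using (mul_eq_zero.1 (congrFun hz f)).resolve_right hp

theorem irr_model (hcard : Fintype.card F = 3 ^ n) : Irr (model 3 d : Representation F G[F] (Idx d → F)) := by
  refine ⟨⟨v0 d, 0, v0_ne d⟩, fun W hW => or_iff_not_imp_left.2 fun hne => ?_⟩
  haveI : Nontrivial W := Submodule.nontrivial_iff_ne_bot.2 hne
  obtain ⟨⟨x, hxW⟩, hx0, hx⟩ := common_fixed (p := 3) (V := W) (fun a => (model 3 d (uu a)).restrict (hW (uu a)))
    (fun a b => by ext x; simp [← uu_add, map_mul]) (by ext x; simp [uu_zero])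
  have hxe := fixed_eq d hcard x fun a => by simpa [Subtype.ext_iff] using hx a
  have hv : v0 d ∈ W := by
    have hne' : x (e0 d) ≠ 0 := fun h => hx0 (Subtype.ext (hxe.trans (by rw [h, zero_smul]; rfl)))
    have := W.smul_mem (x (e0 d))⁻¹ (hxe ▸ hxW : x (e0 d) • v0 d ∈ W)
    rwa [smul_smul, inv_mul_cancel₀ hne', one_smul] at this
  rw [eq_top_iff, ← span_v0 d hcard, Submodule.span_le]
  rintro _ ⟨c, rfl⟩
  exact hW _ _ hv

/-- Digits of a number. -/
theorem exists_digits (hcard : Fintype.card F = 3 ^ n) {k : ℕ} (hk : k ≤ Fintype.card F - 1) :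
    ∃ d : Fin n → Fin 3, top 3 d = k := by
  have : k < 3 ^ n := by
    have := pow_pos (show 0 < 3 by norm_num) n
    omega
  refine ⟨finFunctionFinEquiv.symm ⟨k, this⟩, ?_⟩
  have e := congrArg Fin.val (finFunctionFinEquiv.apply_symm_apply (⟨k, this⟩ : Fin (3 ^ n)))
  rw [finFunctionFinEquiv_apply] at e
  exact e

theorem mu_eq (hcard : Fintype.card F = 3 ^ n) :
    (mu d : F) = if top 3 d = Fintype.card F - 1 then -1 else 0 := by
  classical
  split_ifs with h
  · rw [mu, h]
    have hq : Fintype.card F - 1 ≠ 0 := by have := Fintype.one_lt_card (α := F); omega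
    rw [Fintype.sum_eq_add_sum_compl 0, zero_pow hq, zero_add, Finset.sum_congr rfl fun a ha => by
      rw [FiniteField.pow_card_sub_one_eq_one a (by simpa using ha)], Finset.sum_const, Finset.card_compl,
      Finset.card_singleton, nsmul_one, Nat.cast_sub (Fintype.card_pos (α := F)), FiniteField.cast_card_eq_zero,
      Nat.cast_one, zero_sub]
  · exact FiniteField.sum_pow_lt_card_sub_one F _ (lt_of_le_of_ne (top_lt d hcard) h)

theorem pow_eq_of_modEq {k k' : ℕ} (h : k ≡ k' [MOD Fintype.card F - 1]) (c : Fˣ) : (c : F) ^ k = (c : F) ^ k' := by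
  classical
  rw [← Units.val_pow_eq_pow_val, ← Units.val_pow_eq_pow_val]
  congr 1
  rw [pow_eq_pow_iff_modEq]
  exact h.of_dvd (by rw [← Fintype.card_units]; exact orderOf_dvd_card)

/-- Two lists of digits with the same weight and eigenvalue are equal. -/
theorem digits_unique (hcard : Fintype.card F = 3 ^ n) {d' : Fin n → Fin 3}
    (hw : ∀ c : Fˣ, (c : F) ^ top 3 d = (c : F) ^ top 3 d') (hmu : (mu d : F) = mu d') : d = d' := by
  classical
  obtain ⟨g, hg⟩ := IsCyclic.exists_generator (α := Fˣ)
  have hmod : top 3 d ≡ top 3 d' [MOD Fintype.card F - 1] := by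
    have h := hw g
    rw [← Units.val_pow_eq_pow_val, ← Units.val_pow_eq_pow_val, Units.val_inj, pow_eq_pow_iff_modEq,
      orderOf_eq_card_of_forall_mem_zpowers hg, Nat.card_eq_fintype_card, Fintype.card_units] at h
    exact h
  have htop : top 3 d = top 3 d' := by
    have hd := top_lt d hcard
    have hd' := top_lt d' hcard
    rw [mu_eq d hcard, mu_eq d' hcard] at hmu
    have hne : (-1 : F) ≠ 0 := by simp
    split_ifs at hmu with h1 h2 h2
    · omega
    · exact absurd hmu hne
    · exact absurd hmu.symm hne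
    · exact hmod.eq_of_lt_of_lt (lt_of_le_of_ne hd h1) (lt_of_le_of_ne hd' h2)
  have e : ∀ d : Fin n → Fin 3, top 3 d = (finFunctionFinEquiv d).val := fun d => by
    rw [finFunctionFinEquiv_apply]; rfl
  rw [e, e, Fin.val_inj] at htop
  exact finFunctionFinEquiv.injective htop

variable {V : Type*} [AddCommGroup V] [Module F V] [FiniteDimensional F V]

/-- The classification. -/
theorem classify (hcard : Fintype.card F = 3 ^ n) (ρ : Representation F G[F] V) (h : Irr ρ) :
    ∃ (d : Fin n → Fin 3) (e : (Idx d → F) ≃ₗ[F] V), ∀ g x, e (model 3 d g x) = ρ g (e x) := by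
  classical
  haveI := h.1
  obtain ⟨k, hk, μ, hμ, v, hv0, hv⟩ := exists_typed ρ
  obtain ⟨k', hk', hkk, hmu⟩ : ∃ k' ≤ Fintype.card F - 1, k' ≡ k [MOD Fintype.card F - 1] ∧
      μ = if k' = Fintype.card F - 1 then -1 else 0 := by
    rcases hμ with rfl | ⟨rfl, rfl⟩
    · exact ⟨k, hk.le, rfl, by rw [if_neg hk.ne]⟩
    · exact ⟨_, le_rfl, Nat.modEq_zero_iff_dvd.2 dvd_rfl, by rw [if_pos rfl]⟩
  obtain ⟨d, hd⟩ := exists_digits hcard hk'
  have hv' : Typed ρ (top 3 d) (mu d) v :=
    ⟨hv.fixed, fun c => by rw [hv.weight, hd, pow_eq_of_modEq hkk c], by rw [hv.eigen, mu_eq d hcard, hd, ← hmu]⟩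
  obtain ⟨e, he⟩ := exists_iso (irr_model d hcard) h (typed_v0 d hcard) hv' (v0_ne d) hv0
  exact ⟨d, e, he⟩

end Cfsg.Agent.SL2Defining
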