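/-
Characteristic polynomials in a representation of SL(2, q), q a power of three, over the field with three elements:
products of those of the twisted tensor products, with multiplicities invariant under rotating the digits.
-/
import Cfsg.Agent.Lib.SL2Defining.Classify

set_option autoImplicit false
set_option linter.style.haveILetI false
set_option linter.unusedSectionVars false

namespace Cfsg.Agent.SL2Defining

open Matrix Polynomial

local notation "G[" F "]" => Matrix.SpecialLinearGroup (Fin 2) F

section Charpoly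

variable {k : Type*} [Field k] {V : Type*} [AddCommGroup V] [Module k V] [FiniteDimensional k V]

/-- The characteristic polynomial on an invariant subspace and on its quotient. -/
theorem charpoly_restrict_mul_mapQ (f : V →ₗ[k] V) (W : Submodule k V) (h : ∀ x ∈ W, f x ∈ W) :
    f.charpoly = (f.restrict h).charpoly * (W.mapQ W f h).charpoly := by
  classical
  let bW := Module.finBasis k W
  let bQ := Module.finBasis k (V ⧸ W)
  let b := bW.sumQuot bQ
  have hl : ∀ i, b (Sum.inl i) = (bW i : V) := fun i => by simp [b]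
  have hr : ∀ j, W.mkQ (b (Sum.inr j)) = bQ j := fun j => by simp [b]
  rw [← LinearMap.charpoly_toMatrix f b, ← LinearMap.charpoly_toMatrix (f.restrict h) bW,
    ← LinearMap.charpoly_toMatrix (W.mapQ W f h) bQ, ← Matrix.fromBlocks_toBlocks (LinearMap.toMatrix b b f)]
  have hrepr : ∀ (w : W), b.repr (w : V) = Finsupp.mapDomain Sum.inl (bW.repr w) := by
    intro w
    apply b.repr.symm.injective
    simp only [LinearEquiv.symm_apply_apply, Module.Basis.repr_symm_apply, Finsupp.linearCombination_mapDomain]
    conv_lhs => rw [← bW.linearCombination_repr w]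
    rw [← Submodule.subtype_apply, Finsupp.apply_linearCombination]
    congr 2
    funext i
    simp [hl]
  have h21 : (LinearMap.toMatrix b b f).toBlocks₂₁ = 0 := by
    ext j i
    show LinearMap.toMatrix b b f (Sum.inr j) (Sum.inl i) = 0
    rw [LinearMap.toMatrix_apply, hl, show f (bW i : V) = ((f.restrict h (bW i) : W) : V) from rfl, hrepr,
      Finsupp.mapDomain_of_notMem_range]
    simp
  have h11 : (LinearMap.toMatrix b b f).toBlocks₁₁ = LinearMap.toMatrix bW bW (f.restrict h) := by
    ext j i
    show LinearMap.toMatrix b b f (Sum.inl j) (Sum.inl i) = _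
    rw [LinearMap.toMatrix_apply, hl, show f (bW i : V) = ((f.restrict h (bW i) : W) : V) from rfl, hrepr,
      Finsupp.mapDomain_apply Sum.inl_injective, LinearMap.toMatrix_apply]
  have hq : ∀ x : V, ∀ j, b.repr x (Sum.inr j) = bQ.repr (W.mkQ x) j := by
    intro x j
    conv_rhs => rw [← b.sum_repr x]
    rw [map_sum, map_sum, Finsupp.finsetSum_apply, Fintype.sum_sum_type]
    have e : ∀ i, W.mkQ (b (Sum.inl i)) = 0 := fun i => by
      rw [hl, Submodule.mkQ_apply, Submodule.Quotient.mk_eq_zero]; exact (bW i).2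
    simp [map_smul, e, hr, Finsupp.single_apply]
  have h22 : (LinearMap.toMatrix b b f).toBlocks₂₂ = LinearMap.toMatrix bQ bQ (W.mapQ W f h) := by
    ext j i
    show LinearMap.toMatrix b b f (Sum.inr j) (Sum.inr i) = _
    rw [LinearMap.toMatrix_apply, hq, LinearMap.toMatrix_apply, ← hr i]
    rfl
  rw [h21, h11, h22, Matrix.charpoly_fromBlocks_zero₂₁]

end Charpoly

variable {F : Type*} [Field F] [Fintype F] [CharP F 3] {n : ℕ}

/-- The digits moved up by one place. -/
def rot (d : Fin n → Fin 3) : Fin n → Fin 3 := fun i => d ((finRotate n).symm i)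

theorem top_rot (hcard : Fintype.card F = 3 ^ n) (d : Fin n → Fin 3) :
    top 3 (rot d) ≡ top 3 d * 3 [MOD Fintype.card F - 1] := by
  rw [← ZMod.natCast_eq_natCast_iff]
  have hn : (3 : ZMod (Fintype.card F - 1)) ^ n = 1 := by
    have h : ((Fintype.card F - 1 : ℕ) : ZMod (Fintype.card F - 1)) = 0 := ZMod.natCast_self _
    have : ((3 ^ n : ℕ) : ZMod (Fintype.card F - 1)) = 1 := by
      rw [← hcard, show Fintype.card F = Fintype.card F - 1 + 1 by have := Fintype.card_pos (α := F); omega]
      push_cast
      rw [show ((Fintype.card F - 1 + 1 - 1 : ℕ)) = Fintype.card F - 1 by omega, h, zero_add]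
    exact_mod_cast this
  simp only [top, Nat.cast_sum, Nat.cast_mul, Nat.cast_pow, Nat.cast_ofNat, Finset.sum_mul]
  refine (Equiv.sum_comp (finRotate n) (fun i => ((rot d i).val : ZMod (Fintype.card F - 1)) * 3 ^ i.val)).symm.trans
    (Finset.sum_congr rfl fun i _ => ?_)
  rw [rot, Equiv.symm_apply_apply, mul_assoc, ← pow_succ]
  congr 1
  rcases n with _ | m
  · exact i.elim0
  rw [coe_finRotate]
  split_ifs with hi
  · subst hi
    rw [Fin.val_last, pow_zero, hn]
  · rfl

theorem mu_rot (hcard : Fintype.card F = 3 ^ n) (d : Fin n → Fin 3) : (mu (rot d) : F) = mu d := by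
  classical
  have hall : ∀ d : Fin n → Fin 3, top 3 d = Fintype.card F - 1 ↔ ∀ i, d i = 2 := by
    intro d
    have e : ∀ d : Fin n → Fin 3, top 3 d = (finFunctionFinEquiv d).val := fun d => by
      rw [finFunctionFinEquiv_apply]; rfl
    have h2 : top 3 (fun _ : Fin n => (2 : Fin 3)) = Fintype.card F - 1 := by
      rw [top, hcard, Fin.sum_univ_eq_sum_range (fun i => (2 : Fin 3).val * 3 ^ i), ← Finset.mul_sum]
      have := geom_sum_mul_add 2 n
      norm_num at this ⊢
      omega
    constructor
    · intro h i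
      rw [← h2, e, e, Fin.val_inj] at h
      exact congrFun (finFunctionFinEquiv.injective h) i
    · intro h
      rw [← h2]
      exact congrArg _ (funext h)
  rw [mu_eq _ hcard, mu_eq _ hcard]
  refine if_congr ((hall _).trans (Iff.trans ?_ (hall _).symm)) rfl rfl
  exact ⟨fun h i => by simpa only [rot, Equiv.symm_apply_apply] using h (finRotate n i), fun h i => h _⟩

variable {V : Type*} [AddCommGroup V] [Module F V] [FiniteDimensional F V] (ρ : Representation F G[F] V)

/-- Invariant subspaces. -/
def Inv (S : Submodule F V) : Prop := ∀ g, ∀ x ∈ S, ρ g x ∈ S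

theorem Inv.sup {S M : Submodule F V} (hS : Inv ρ S) (hM : Inv ρ M) : Inv ρ (S ⊔ M) := by
  intro g x hx
  obtain ⟨s, hs, m, hm, rfl⟩ := Submodule.mem_sup.1 hx
  rw [map_add]
  exact Submodule.add_mem_sup (hS g s hs) (hM g m hm)

/-- Minimal invariant subspaces. -/
def Minimal' (M : Submodule F V) : Prop :=
  Inv ρ M ∧ M ≠ ⊥ ∧ ∀ W ≤ M, Inv ρ W → W = ⊥ ∨ W = M

/-- Sums of minimal invariant subspaces meeting trivially. -/
inductive Semi : Submodule F V → Prop
  | bot : Semi ⊥
  | add {S M : Submodule F V} : Semi S → Minimal' ρ M → S ⊓ M = ⊥ → Semi (S ⊔ M)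

theorem Semi.inv {S : Submodule F V} (h : Semi ρ S) : Inv ρ S := by
  induction h with
  | bot => intro g x hx; simp_all
  | add _ hM _ ih => exact ih.sup ρ hM.1

/-- The space of vectors of a type. -/
noncomputable def typedSpace (k : ℕ) (μ : F) : Submodule F V where
  carrier := {x | Typed ρ k μ x}
  add_mem' {x y} hx hy := ⟨fun a => by rw [map_add, hx.fixed, hy.fixed],
    fun c => by rw [map_add, hx.weight, hy.weight, smul_add], by rw [map_add, hx.eigen, hy.eigen, smul_add]⟩
  zero_mem' := ⟨fun a => map_zero _, fun c => by simp, by simp⟩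
  smul_mem' r x hx := ⟨fun a => by rw [map_smul, hx.fixed], fun c => by rw [map_smul, hx.weight, smul_comm],
    by rw [map_smul, hx.eigen, smul_comm]⟩

theorem mem_typedSpace {k : ℕ} {μ : F} {x : V} : x ∈ typedSpace ρ k μ ↔ Typed ρ k μ x := Iff.rfl

theorem typedSpace_sup {S M : Submodule F V} (hS : Inv ρ S) (hM : Inv ρ M) (hd : S ⊓ M = ⊥) (k : ℕ) (μ : F) :
    typedSpace ρ k μ ⊓ (S ⊔ M) = (typedSpace ρ k μ ⊓ S) ⊔ (typedSpace ρ k μ ⊓ M) := by
  refine le_antisymm ?_ (sup_le (inf_le_inf_left _ le_sup_left) (inf_le_inf_left _ le_sup_right))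
  rintro x ⟨hx, hx'⟩
  obtain ⟨s, hs, m, hm, rfl⟩ := Submodule.mem_sup.1 hx'
  have key : ∀ a b c e : V, a ∈ S → b ∈ M → c ∈ S → e ∈ M → a + b = c + e → a = c ∧ b = e := by
    intro a b c e ha hb hc he h
    have h' : a - c = e - b := by rw [sub_eq_sub_iff_add_eq_add, h, add_comm]
    have h0 : a - c = 0 := by
      rw [← Submodule.mem_bot F, ← hd]
      exact ⟨sub_mem ha hc, h' ▸ sub_mem he hb⟩
    exact ⟨sub_eq_zero.1 h0, (sub_eq_zero.1 (h'.symm.trans h0)).symm⟩
  have hH : ∀ {T : Submodule F V}, Inv ρ T → ∀ y ∈ T, hecke ρ y ∈ T := fun hT y hy => by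
    rw [hecke_apply]; exact Submodule.sum_mem _ fun a _ => hT _ y hy
  have h1 := fun a => key _ _ _ _ (hS (uu a) s hs) (hM (uu a) m hm) hs hm (by
    rw [← map_add]; exact (mem_typedSpace ρ).1 hx |>.fixed a)
  have h2 := fun c : Fˣ => key _ _ _ _ (hS (tor c) s hs) (hM (tor c) m hm) (S.smul_mem ((c : F) ^ k) hs)
    (M.smul_mem ((c : F) ^ k) hm) (by rw [← map_add, ← smul_add]; exact ((mem_typedSpace ρ).1 hx).weight c)
  have h3 := key _ _ _ _ (hH hS s hs) (hH hM m hm) (S.smul_mem μ hs) (M.smul_mem μ hm)
    (by rw [← map_add, ← smul_add]; exact ((mem_typedSpace ρ).1 hx).eigen)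
  exact Submodule.add_mem_sup ⟨⟨fun a => (h1 a).1, fun c => (h2 c).1, h3.1⟩, hs⟩
    ⟨⟨fun a => (h1 a).2, fun c => (h2 c).2, h3.2⟩, hm⟩

/-- The multiplicity of a type. -/
noncomputable def mult (S : Submodule F V) (d : Fin n → Fin 3) : ℕ :=
  Module.finrank F ↥(typedSpace ρ (top 3 d) (mu d) ⊓ S)

set_option maxHeartbeats 1000000 in
theorem minimal_decomp (hcard : Fintype.card F = 3 ^ n) {M : Submodule F V} (hM : Minimal' ρ M) (g : G[F]) :
    ((ρ g).restrict (hM.1 g)).charpoly = ∏ d : Fin n → Fin 3, (rep 3 d g.1).charpoly ^ mult ρ M d := by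
  classical
  let ρM : Representation F G[F] M :=
    { toFun := fun g => (ρ g).restrict (hM.1 g)
      map_one' := by ext x; simp
      map_mul' := fun g g' => by ext x; simp }
  have hirr : Irr ρM := by
    refine ⟨Submodule.nontrivial_iff_ne_bot.2 hM.2.1, fun W hW => ?_⟩
    have hinv : Inv ρ (W.map M.subtype) := by
      rintro g _ ⟨y, hy, rfl⟩
      exact ⟨ρM g y, hW g y hy, rfl⟩
    rcases hM.2.2 _ (Submodule.map_subtype_le M W) hinv with h | h
    · exact Or.inl (Submodule.map_injective_of_injective M.injective_subtype (by rw [h, Submodule.map_bot]))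
    · exact Or.inr (Submodule.map_injective_of_injective M.injective_subtype (by rw [h, Submodule.map_subtype_top]))
  obtain ⟨d₀, e, he⟩ := classify hcard ρM hirr
  have hval : ∀ g x, ρ g (e x : V) = (e (model 3 d₀ g x) : V) := fun g x => by rw [he]; rfl
  have hT : ∀ d : Fin n → Fin 3, ∀ x, Typed ρ (top 3 d) (mu d) (e x : V) ↔
      Typed (model 3 d₀) (top 3 d) (mu d) x := by
    intro d x
    have hh : hecke ρ (e x : V) = (e (hecke (model 3 d₀) x) : V) := by
      simp [hecke_apply, hval]
    constructor
    · intro h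
      refine ⟨fun a => ?_, fun c => ?_, ?_⟩
      · exact e.injective (Subtype.ext ((hval _ _).symm.trans (h.fixed a)))
      · refine e.injective (Subtype.ext ((hval _ _).symm.trans (h.weight c |>.trans ?_)))
        simp
      · refine e.injective (Subtype.ext (hh.symm.trans (h.eigen.trans ?_)))
        simp
    · intro h
      exact ⟨fun a => by rw [hval, h.fixed], fun c => by rw [hval, h.weight]; simp,
        by rw [hh, h.eigen]; simp⟩
  have hmult : ∀ d, mult ρ M d = if d = d₀ then 1 else 0 := by
    intro d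
    have hsub : typedSpace ρ (top 3 d) (mu d) ⊓ M =
        if d = d₀ then Submodule.span F {(e (v0 d₀) : V)} else ⊥ := by
      refine le_antisymm ?_ ?_
      · rintro y ⟨hy, hyM⟩
        obtain ⟨x, hx⟩ := e.surjective ⟨y, hyM⟩
        have hy' : y = (e x : V) := by rw [hx]
        rw [hy'] at hy ⊢
        have ht := (hT d x).1 hy
        have hxe := fixed_eq d₀ hcard x ht.fixed
        rcases eq_or_ne d d₀ with rfl | hne
        · rw [if_pos rfl, hxe, map_smul, Submodule.coe_smul]
          exact Submodule.smul_mem _ _ (Submodule.mem_span_singleton_self _)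
        · rw [if_neg hne, Submodule.mem_bot]
          by_contra h0
          have hx0 : x (e0 d₀) ≠ 0 := fun h => h0 (by rw [hxe, h, zero_smul, map_zero]; rfl)
          have hx' : x ≠ 0 := fun h => hx0 (by rw [h]; rfl)
          have ht₀ : Typed (model 3 d₀) (top 3 d₀) (mu d₀) x := by
            rw [hxe]
            have hv₀ := typed_v0 (F := F) d₀ hcard
            exact ⟨fun b => by rw [map_smul, hv₀.fixed], fun c => by rw [map_smul, hv₀.weight, smul_comm],
              by rw [map_smul, hv₀.eigen, smul_comm]⟩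
          refine hne (digits_unique d hcard (fun c => ?_) ?_)
          · exact smul_left_injective F hx' ((ht.weight c).symm.trans (ht₀.weight c))
          · exact smul_left_injective F hx' (ht.eigen.symm.trans ht₀.eigen)
      · split_ifs with h
        · subst h
          rw [Submodule.span_singleton_le_iff_mem]
          exact ⟨(hT d _).2 (typed_v0 d hcard), (e _).2⟩
        · exact bot_le
    rw [mult, hsub]
    by_cases h : d = d₀
    · rw [if_pos h, if_pos h]
      have h1 : (e (v0 d₀) : V) ≠ 0 := by
        intro h0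
        apply v0_ne (F := F) d₀
        apply e.injective
        rw [map_zero]
        exact Subtype.ext h0
      exact finrank_span_singleton (K := F) (v := (e (v0 d₀) : V)) h1
    · rw [if_neg h, if_neg h]
      exact finrank_bot F V
  have hmodel : ((ρ g).restrict (hM.1 g)).charpoly = (model 3 d₀ g).charpoly := by
    rw [show (ρ g).restrict (hM.1 g) = e.conj (model 3 d₀ g) from LinearMap.ext fun y => by
      rw [LinearEquiv.conj_apply_apply, he, LinearEquiv.apply_symm_apply]; rfl]
    exact LinearEquiv.charpoly_conj e _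
  rw [hmodel, charpoly_model, Finset.prod_eq_single d₀]
  · rw [hmult, if_pos rfl, pow_one]
  · intro d _ hne; rw [hmult, if_neg hne, pow_zero]
  · simp

theorem semi_decomp (hcard : Fintype.card F = 3 ^ n) {S : Submodule F V} (hS : Semi ρ S) (g : G[F]) :
    ((ρ g).restrict (hS.inv ρ g)).charpoly = ∏ d : Fin n → Fin 3, (rep 3 d g.1).charpoly ^ mult ρ S d := by
  classical
  induction hS with
  | bot =>
    haveI : Subsingleton (⊥ : Submodule F V) := inferInstance
    have h0 : Module.finrank F (⊥ : Submodule F V) = 0 := finrank_bot F V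
    have hd := LinearMap.charpoly_natDegree ((ρ g).restrict ((Semi.bot (ρ := ρ)).inv ρ g))
    rw [h0] at hd
    rw [Polynomial.eq_one_of_monic_natDegree_zero (LinearMap.charpoly_monic _) hd]
    refine (Finset.prod_eq_one fun d _ => ?_).symm
    rw [show mult ρ (⊥ : Submodule F V) d = 0 by rw [mult, inf_bot_eq]; exact finrank_bot F V, pow_zero]
  | @add S M hS hM hd ih =>
    have hSi := hS.inv ρ
    let f : (S × M) →ₗ[F] ↥(S ⊔ M) := LinearMap.coprod (Submodule.inclusion le_sup_left) (Submodule.inclusion le_sup_right)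
    have hf : Function.Bijective f := by
      refine ⟨LinearMap.ker_eq_bot.1 (LinearMap.ker_eq_bot'.2 fun ⟨s, m⟩ h => ?_), fun ⟨x, hx⟩ => ?_⟩
      · have h' : (s : V) + m = 0 := by simpa [f, Subtype.ext_iff] using h
        have hs : (s : V) = 0 := by
          rw [← Submodule.mem_bot F, ← hd]
          exact ⟨s.2, by rw [eq_neg_of_add_eq_zero_left h']; exact neg_mem m.2⟩
        rw [hs, zero_add] at h'
        ext <;> simp [hs, h']
      · obtain ⟨s, hs, m, hm, rfl⟩ := Submodule.mem_sup.1 hx
        exact ⟨(⟨s, hs⟩, ⟨m, hm⟩), Subtype.ext (by simp [f])⟩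
    let e := LinearEquiv.ofBijective f hf
    have hconj : (ρ g).restrict ((Semi.add hS hM hd).inv ρ g) =
        e.conj (((ρ g).restrict (hSi g)).prodMap ((ρ g).restrict (hM.1 g))) := LinearMap.ext fun y => by
      obtain ⟨⟨s, m⟩, rfl⟩ := e.surjective y
      rw [LinearEquiv.conj_apply_apply, LinearEquiv.symm_apply_apply]
      exact Subtype.ext (by simp [e, f, LinearEquiv.ofBijective_apply])
    rw [hconj, LinearEquiv.charpoly_conj, LinearMap.charpoly_prodMap, ih, minimal_decomp ρ hcard hM,
      ← Finset.prod_mul_distrib]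
    refine Finset.prod_congr rfl fun d _ => ?_
    rw [← pow_add]
    congr 1
    have h := Submodule.finrank_sup_add_finrank_inf_eq (typedSpace ρ (top 3 d) (mu d) ⊓ S)
      (typedSpace ρ (top 3 d) (mu d) ⊓ M)
    rw [show (typedSpace ρ (top 3 d) (mu d) ⊓ S) ⊓ (typedSpace ρ (top 3 d) (mu d) ⊓ M) = ⊥ from
      eq_bot_iff.2 (le_trans (inf_le_inf inf_le_right inf_le_right) hd.le), finrank_bot, add_zero] at h
    show _ = Module.finrank F ↥(typedSpace ρ (top 3 d) (mu d) ⊓ (S ⊔ M))
    rw [typedSpace_sup ρ hSi hM.1 hd, h]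
    rfl

local instance instFactPrimeThreeRational : Fact (Nat.Prime 3) := ⟨Nat.prime_three⟩

variable {m : ℕ}

/-- The field with three elements inside. -/
abbrev inc : ZMod 3 →+* F := ZMod.castHom dvd_rfl F

/-- The extension of a matrix representation. -/
noncomputable def extend (R : G[F] →* Matrix (Fin m) (Fin m) (ZMod 3)) : Representation F G[F] (Fin m → F) where
  toFun g := Matrix.toLin' ((R g).map inc)
  map_one' := by rw [map_one, Matrix.map_one _ (map_zero _) (map_one _), Matrix.toLin'_one]; rfl
  map_mul' g h := by rw [map_mul, Matrix.map_mul, Matrix.toLin'_mul]; rfl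

/-- The entrywise powers. -/
def frobVec (i : ℕ) (x : Fin m → F) : Fin m → F := fun j => x j ^ 3 ^ i

theorem frobVec_extend (R : G[F] →* Matrix (Fin m) (Fin m) (ZMod 3)) (g : G[F]) (i : ℕ) (x : Fin m → F) :
    frobVec i (extend R g x) = extend R g (frobVec i x) := by
  funext j
  show (Matrix.toLin' ((R g).map inc) x j) ^ 3 ^ i = Matrix.toLin' ((R g).map inc) (frobVec i x) j
  simp only [Matrix.toLin'_apply, Matrix.mulVec, dotProduct, frobVec, sum_pow_char_pow, mul_pow, Matrix.map_apply]
  refine Finset.sum_congr rfl fun l _ => ?_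
  rw [← map_pow, ZMod.pow_card_pow]

theorem frobVec_add (i l : ℕ) (x : Fin m → F) : frobVec i (frobVec l x) = frobVec (l + i) x :=
  funext fun j => by simp only [frobVec, ← pow_mul, ← pow_add]

theorem frobVec_card (hcard : Fintype.card F = 3 ^ n) (x : Fin m → F) : frobVec n x = x :=
  funext fun j => by simp only [frobVec, ← hcard, FiniteField.pow_card]

/-- The preimage of a subspace. -/
def pre (i : ℕ) (S : Submodule F (Fin m → F)) : Submodule F (Fin m → F) where
  carrier := {x | frobVec i x ∈ S}
  add_mem' {x y} hx hy := by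
    show frobVec i (x + y) ∈ S
    have : frobVec i (x + y) = frobVec i x + frobVec i y := funext fun j => by simp [frobVec, add_pow_char_pow]
    rw [this]; exact add_mem hx hy
  zero_mem' := by
    show frobVec i 0 ∈ S
    have : frobVec i (0 : Fin m → F) = 0 := funext fun j => by simp [frobVec]
    rw [this]; exact zero_mem _
  smul_mem' r x hx := by
    show frobVec i (r • x) ∈ S
    have : frobVec i (r • x) = r ^ 3 ^ i • frobVec i x := funext fun j => by simp [frobVec, mul_pow]
    rw [this]; exact S.smul_mem _ hx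

set_option maxHeartbeats 1000000 in
theorem simple_decomp (hcard : Fintype.card F = 3 ^ n) (hn : 0 < n) (R : G[F] →* Matrix (Fin m) (Fin m) (ZMod 3))
    (hirr : ∀ Y : Submodule (ZMod 3) (Fin m → ZMod 3), (∀ g, ∀ y ∈ Y, R g *ᵥ y ∈ Y) → Y = ⊥ ∨ Y = ⊤) :
    ∃ c : (Fin n → Fin 3) → ℕ, (∀ d, c (rot d) = c d) ∧
      ∀ g, (R g).charpoly.map inc = ∏ d, (rep 3 d g.1).charpoly ^ c d := by
  classical
  set ρ := extend R with hρ
  have hfix : ∀ i l : ℕ, ∀ x : Fin m → F, i ≡ l [MOD n] → frobVec i x = frobVec l x := by
    intro i l x h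
    have key : ∀ i, frobVec i x = frobVec (i % n) x := by
      intro i
      conv_lhs => rw [← Nat.mod_add_div i n]
      generalize i / n = k
      induction k with
      | zero => simp
      | succ k ih => rw [Nat.mul_succ, ← add_assoc, ← frobVec_add, frobVec_card hcard, ih]
    rw [key i, key l, h]
  have hzero : ∀ x : Fin m → F, frobVec 0 x = x := fun x => funext fun j => by simp [frobVec]
  have hpre : ∀ i S, Inv ρ S → Inv ρ (pre i S) := fun i S hS g x hx => by
    show frobVec i (ρ g x) ∈ S
    rw [hρ, frobVec_extend]; exact hS g _ hx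
  -- a subspace stable under the entrywise cube contains everything
  have descent : ∀ S : Submodule F (Fin m → F), Inv ρ S → S ≠ ⊥ → (∀ x ∈ S, frobVec 1 x ∈ S) → S = ⊤ := by
    intro S hS hne hσ
    obtain ⟨w, hw, hw0⟩ := Submodule.exists_mem_ne_zero_of_ne_bot hne
    obtain ⟨j, hj⟩ := Function.ne_iff.1 hw0
    obtain ⟨t, ht⟩ : ∃ t : F, ∑ i ∈ Finset.range n, (t * w j) ^ 3 ^ i ≠ 0 := by
      by_contra hall
      push Not at hall
      have hP : (∑ i ∈ Finset.range n, (X : F[X]) ^ 3 ^ i) = 0 := by
        refine eq_zero_of_natDegree_lt_card_of_eval_eq_zero _ (f := id) Function.injective_id (fun a => ?_) ?_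
        · simpa [eval_finsetSum, div_mul_cancel₀ _ hj] using hall (a / w j)
        · refine lt_of_le_of_lt (natDegree_sum_le_of_forall_le _ _ (n := 3 ^ (n - 1)) fun i hi => ?_) ?_
          · rw [natDegree_X_pow]
            exact Nat.pow_le_pow_right (by norm_num) (by have := Finset.mem_range.1 hi; omega)
          · rw [hcard]; exact Nat.pow_lt_pow_right (by norm_num) (by omega)
      have h1 := congrArg (fun Q : F[X] => Q.coeff 1) hP
      rw [finsetSum_coeff, Finset.sum_eq_single 0] at h1
      · simp at h1
      · intro i _ hi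
        rw [coeff_X_pow, if_neg]
        have : 3 ^ 1 ≤ 3 ^ i := Nat.pow_le_pow_right (by norm_num) (by omega)
        norm_num at this
        omega
      · intro h; exact absurd (Finset.mem_range.2 hn) h
    set x : Fin m → F := ∑ i ∈ Finset.range n, frobVec i (t • w) with hxdef
    have hσk : ∀ i, ∀ y ∈ S, frobVec i y ∈ S := by
      intro i
      induction i with
      | zero => intro y hy; rwa [hzero]
      | succ i ih => intro y hy; rw [← frobVec_add 1 i y]; exact hσ _ (ih y hy)
    have hxS : x ∈ S := Submodule.sum_mem _ fun i _ => hσk i _ (S.smul_mem t hw)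
    have hxj : ∀ l, x l ^ 3 = x l := by
      intro l
      simp only [hxdef, Finset.sum_apply, sum_pow_char, frobVec, Pi.smul_apply, smul_eq_mul, ← pow_mul, ← pow_succ]
      have h1 := Finset.sum_range_succ' (fun i => (t * w l) ^ 3 ^ i) n
      have h2 := Finset.sum_range_succ (fun i => (t * w l) ^ 3 ^ i) n
      have h3 : (t * w l) ^ 3 ^ n = (t * w l) ^ 3 ^ 0 := by rw [← hcard, FiniteField.pow_card, pow_zero, pow_one]
      have := h1.symm.trans h2
      rw [h3] at this
      exact add_right_cancel this
    have hx0 : x ≠ 0 := fun h => ht (by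
      have := congrFun h j
      simpa [hxdef, frobVec, Finset.sum_apply] using this)
    have hlift : ∀ l, ∃ a : ZMod 3, inc a = x l := by
      intro l
      have h : x l * ((x l - 1) * (x l + 1)) = 0 := by linear_combination hxj l
      rcases mul_eq_zero.1 h with h | h
      · exact ⟨0, by rw [map_zero, h]⟩
      rcases mul_eq_zero.1 h with h | h
      · exact ⟨1, by rw [map_one, sub_eq_zero.1 h]⟩
      · exact ⟨-1, by rw [map_neg, map_one, eq_neg_of_add_eq_zero_left h]⟩
    choose y hy using hlift
    let Y : Submodule (ZMod 3) (Fin m → ZMod 3) :=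
      { carrier := {y | (fun l => (inc (y l) : F)) ∈ S}
        add_mem' := fun {a b} ha hb => by
          show (fun l => (inc ((a + b) l) : F)) ∈ S
          simp only [Pi.add_apply, map_add]
          exact add_mem ha hb
        zero_mem' := by
          show (fun l => (inc ((0 : Fin m → ZMod 3) l) : F)) ∈ S
          simp only [Pi.zero_apply, map_zero]
          exact zero_mem S
        smul_mem' := fun r a ha => by
          show (fun l => (inc ((r • a) l) : F)) ∈ S
          simp only [Pi.smul_apply, smul_eq_mul, map_mul]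
          exact S.smul_mem _ ha }
    have hY : Y = ⊤ := (hirr Y fun g a ha => by
      show (fun l => (inc ((R g *ᵥ a) l) : F)) ∈ S
      have e : (fun l => (inc ((R g *ᵥ a) l) : F)) = ρ g (fun l => inc (a l)) := by
        funext l
        rw [hρ]
        show _ = Matrix.toLin' ((R g).map inc) _ l
        simp [Matrix.toLin'_apply, Matrix.mulVec, dotProduct, map_sum, map_mul]
      rw [e]
      exact hS g _ ha).resolve_left fun hb => hx0 (by
        have hyY : y ∈ Y := by
          show (fun l => (inc (y l) : F)) ∈ S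
          rw [show (fun l => (inc (y l) : F)) = x from funext hy]
          exact hxS
        rw [hb, Submodule.mem_bot] at hyY
        funext l
        rw [← hy l, hyY]
        simp)
    rw [eq_top_iff]
    intro z _
    rw [pi_eq_sum_univ z]
    refine Submodule.sum_mem _ fun l _ => S.smul_mem _ ?_
    have hl : (fun k => if l = k then (1 : ZMod 3) else 0) ∈ Y := hY ▸ Submodule.mem_top
    have e : (fun k => (inc ((fun k => if l = k then (1 : ZMod 3) else 0) k) : F)) =
        fun k => if l = k then 1 else 0 := by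
      funext k
      by_cases h : l = k <;> simp [h]
    exact e ▸ (hl : (fun k => (inc ((fun k => if l = k then (1 : ZMod 3) else 0) k) : F)) ∈ S)
  -- everything is a sum of minimal subspaces
  have hsemi : Semi ρ ⊤ := by
    obtain ⟨S, hS, hmax⟩ : ∃ S, Semi ρ S ∧ ∀ S', Semi ρ S' → S ≤ S' → S' = S := by
      obtain ⟨S, hS, hmax⟩ := WellFounded.has_min
        (InvImage.wf (fun S : Submodule F (Fin m → F) => m - Module.finrank F S) Nat.lt_wfRel.wf)
        {S | Semi ρ S} ⟨⊥, Semi.bot⟩
      refine ⟨S, hS, fun S' hS' hle => ?_⟩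
      by_contra hne
      have h1 := Submodule.finrank_lt_finrank_of_lt (lt_of_le_of_ne hle (Ne.symm hne))
      have h2 := Submodule.finrank_le S'
      rw [Module.finrank_fin_fun] at h2
      exact hmax S' hS' (show m - Module.finrank F S' < m - Module.finrank F S by omega)
    by_cases htop : (⊤ : Submodule F (Fin m → F)) = ⊥
    · exact htop ▸ Semi.bot
    obtain ⟨M₀, hM₀, hmin⟩ := WellFounded.has_min
      (InvImage.wf (fun S : Submodule F (Fin m → F) => Module.finrank F S) Nat.lt_wfRel.wf)
      {M | Inv ρ M ∧ M ≠ ⊥} ⟨⊤, fun g x _ => Submodule.mem_top, htop⟩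
    have hmM : Minimal' ρ M₀ := by
      refine ⟨hM₀.1, hM₀.2, fun W hW hWi => or_iff_not_imp_left.2 fun hne => ?_⟩
      by_contra h
      exact hmin W ⟨hWi, hne⟩ (Submodule.finrank_lt_finrank_of_lt (lt_of_le_of_ne hW h))
    have hmin_pre : ∀ i, Minimal' ρ (pre i M₀) := by
      intro i
      set i' := n - i % n with hi'
      have hii : i + i' ≡ 0 [MOD n] := by
        rw [Nat.modEq_zero_iff_dvd]
        refine ⟨i / n + 1, ?_⟩
        have := Nat.mod_add_div i n
        have := Nat.mod_lt i hn
        rw [Nat.mul_succ]; omega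
      have hback : ∀ x : Fin m → F, frobVec i (frobVec i' x) = x := fun x => by
        rw [frobVec_add, add_comm, hfix _ _ _ hii, hzero]
      have hforth : ∀ x : Fin m → F, frobVec i' (frobVec i x) = x := fun x => by
        rw [frobVec_add, hfix _ _ _ hii, hzero]
      refine ⟨hpre i M₀ hmM.1, ?_, fun W hW hWi => ?_⟩
      · obtain ⟨w, hw, hw0⟩ := Submodule.exists_mem_ne_zero_of_ne_bot hmM.2.1
        refine Submodule.ne_bot_iff _ |>.2 ⟨frobVec i' w, by show frobVec i _ ∈ M₀; rwa [hback], fun h => hw0 ?_⟩
        rw [← hback w, h]; funext j; simp [frobVec]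
      · rcases hmM.2.2 (pre i' W) (fun x hx => by
          have := hW (show frobVec i' x ∈ W from hx)
          rwa [show (frobVec i' x ∈ pre i M₀) = (frobVec i (frobVec i' x) ∈ M₀) from rfl, hback] at this)
          (hpre i' W hWi) with h | h
        · refine Or.inl ((Submodule.eq_bot_iff _).2 fun x hx => ?_)
          have : frobVec i x ∈ pre i' W := by show frobVec i' _ ∈ W; rwa [hforth]
          rw [h, Submodule.mem_bot] at this
          rw [← hforth x, this]; funext j; simp [frobVec]
        · refine Or.inr (le_antisymm hW fun x hx => ?_)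
          have : frobVec i x ∈ pre i' W := h ▸ hx
          rwa [show (frobVec i x ∈ pre i' W) = (frobVec i' (frobVec i x) ∈ W) from rfl, hforth] at this
    suffices hS' : S = ⊤ from hS' ▸ hS
    by_contra hne
    have hsup : (⨆ i : Fin n, pre i.val M₀) = ⊤ := by
      refine descent _ (fun g x hx => ?_) ?_ fun x hx => ?_
      · refine Submodule.iSup_induction (motive := fun x => ρ g x ∈ ⨆ i : Fin n, pre i.val M₀) _ hx
          (fun i y hy => Submodule.mem_iSup_of_mem i (hpre _ _ hmM.1 g y hy)) (by simp)
          (fun a b ha hb => by rw [map_add]; exact add_mem ha hb)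
      · intro h
        exact (hmin_pre 0).2.1 (le_bot_iff.1 (h ▸ le_iSup (fun i : Fin n => pre i.val M₀) ⟨0, hn⟩))
      · refine Submodule.iSup_induction (motive := fun x => frobVec 1 x ∈ ⨆ i : Fin n, pre i.val M₀) _ hx
          (fun i y hy => ?_) ?_ (fun a b ha hb => ?_)
        · refine Submodule.mem_iSup_of_mem ⟨(i.val + (n - 1)) % n, Nat.mod_lt _ hn⟩ ?_
          show frobVec _ (frobVec 1 y) ∈ M₀
          rw [frobVec_add, hfix _ i.val _ ?_]
          · exact hy
          · calc 1 + (i.val + (n - 1)) % n ≡ 1 + (i.val + (n - 1)) [MOD n] :=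
                  (Nat.mod_modEq _ _).add_left 1
              _ = i.val + n := by omega
              _ ≡ i.val [MOD n] := Nat.add_modEq_right
        · have : frobVec 1 (0 : Fin m → F) = 0 := funext fun j => by simp [frobVec]
          rw [this]; exact zero_mem _
        · have : frobVec 1 (a + b) = frobVec 1 a + frobVec 1 b := funext fun j => by
            simp [frobVec, add_pow_char]
          rw [this]; exact add_mem ha hb
    obtain ⟨i, hi⟩ : ∃ i : Fin n, ¬ pre i.val M₀ ≤ S := by
      by_contra hall
      push Not at hall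
      exact hne (eq_top_iff.2 (hsup ▸ iSup_le hall))
    have hint : S ⊓ pre i.val M₀ = ⊥ := by
      refine ((hmin_pre i).2.2 _ inf_le_right fun g x hx => ⟨hS.inv ρ g x hx.1, (hmin_pre i).1 g x hx.2⟩).resolve_right ?_
      exact fun h => hi (h ▸ inf_le_left)
    exact hi (hmax _ (Semi.add hS (hmin_pre i) hint) le_sup_left ▸ le_sup_right)
  refine ⟨mult ρ ⊤, fun d => ?_, fun g => ?_⟩
  · -- the entrywise cube moves the types
    let T := fun d : Fin n → Fin 3 => typedSpace ρ (top 3 d) (mu d) ⊓ ⊤
    have hmove : ∀ d x, x ∈ T d → frobVec 1 x ∈ T (rot d) := by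
      intro d x hx
      have ht : Typed ρ (top 3 d) (mu d) x := hx.1
      have hmap : ∀ g, ρ g (frobVec 1 x) = frobVec 1 (ρ g x) := fun g => (frobVec_extend R g 1 x).symm
      have hsm : ∀ r : F, frobVec 1 (r • x) = r ^ 3 • frobVec 1 x := fun r => funext fun j => by
        simp [frobVec, mul_pow]
      refine ⟨⟨fun a => by rw [hmap, ht.fixed], fun c => ?_, ?_⟩, trivial⟩
      · rw [hmap, ht.weight, hsm, ← pow_mul, pow_eq_of_modEq (top_rot hcard d) c]
      · have e : hecke ρ (frobVec 1 x) = frobVec 1 (hecke ρ x) := by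
          rw [hecke_apply, hecke_apply]
          funext j
          simp only [Finset.sum_apply, hmap, frobVec, sum_pow_char_pow]
        rw [e, ht.eigen, hsm, mu_rot hcard]
        congr 1
        rw [mu_eq d hcard]
        split_ifs <;> simp [pow_succ]
    have hinj : Function.Injective (frobVec (F := F) (m := m) 1) := fun x y h => by
      rw [← frobVec_card hcard x, ← frobVec_card hcard y, show n = 1 + (n - 1) by omega, ← frobVec_add, ← frobVec_add, h]
    have hle : ∀ d : Fin n → Fin 3, mult ρ ⊤ d ≤ mult ρ ⊤ (rot d) := by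
      intro d
      have h := Nat.card_le_card_of_injective (fun x : T d => (⟨frobVec 1 x.1, hmove d x.1 x.2⟩ : T (rot d)))
        fun x y h => Subtype.ext (hinj (congrArg Subtype.val h))
      rw [Module.natCard_eq_pow_finrank (K := F) (V := T d), Module.natCard_eq_pow_finrank (K := F) (V := T (rot d))] at h
      exact (Nat.pow_le_pow_iff_right (by rw [Nat.card_eq_fintype_card]; exact Fintype.one_lt_card)).1 h
    refine le_antisymm ?_ (hle d)
    have key : ∀ k, mult ρ ⊤ (rot d) ≤ mult ρ ⊤ ((rot)^[k] (rot d)) := by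
      intro k
      induction k with
      | zero => exact le_rfl
      | succ k ih => rw [Function.iterate_succ_apply']; exact ih.trans (hle _)
    have hper : ∀ k (d : Fin n → Fin 3), (rot)^[k] d = fun i => d (((finRotate n).symm : Fin n → Fin n)^[k] i) := by
      intro k
      induction k with
      | zero => intro d; rfl
      | succ k ih => intro d; rw [Function.iterate_succ_apply, ih]; funext i; rw [rot, Function.iterate_succ_apply']
    have hfin : ∃ k, (rot)^[k] (rot d) = d := by
      refine ⟨orderOf (finRotate n).symm - 1, ?_⟩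
      rw [← Function.iterate_succ_apply, Nat.succ_eq_add_one, Nat.sub_add_cancel (orderOf_pos _), hper]
      funext i
      rw [Equiv.Perm.iterate_eq_pow, pow_orderOf_eq_one]
      rfl
    obtain ⟨k, hk⟩ := hfin
    exact (key k).trans (le_of_eq (by rw [hk]))
  · rw [← semi_decomp ρ hcard hsemi g, ← Matrix.charpoly_map]
    rw [show (ρ g).restrict ((hsemi.inv ρ) g) = (LinearEquiv.ofTop ⊤ rfl).symm.conj (ρ g) from
      LinearMap.ext fun x => Subtype.ext rfl, LinearEquiv.charpoly_conj]
    rw [← LinearMap.charpoly_toMatrix (ρ g) (Pi.basisFun F (Fin m)), LinearMap.toMatrix_eq_toMatrix']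
    exact congrArg Matrix.charpoly (LinearMap.toMatrix'_toLin' _).symm

/-- The decomposition. -/
theorem decomp (hcard : Fintype.card F = 3 ^ n) (hn : 0 < n) :
    ∀ (W : Type) [AddCommGroup W] [Module (ZMod 3) W] [FiniteDimensional (ZMod 3) W]
      (ρ₀ : Representation (ZMod 3) G[F] W),
    ∃ c : (Fin n → Fin 3) → ℕ, (∀ d, c (rot d) = c d) ∧
      ∀ g, (ρ₀ g).charpoly.map inc = ∏ d, (rep 3 d g.1).charpoly ^ c d := by
  intro W _ _ _ ρ₀
  induction hk : Module.finrank (ZMod 3) W using Nat.strong_induction_on generalizing W with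
  | _ k ih =>
  classical
  by_cases hirr : ∀ Y : Submodule (ZMod 3) W, (∀ g, ∀ y ∈ Y, ρ₀ g y ∈ Y) → Y = ⊥ ∨ Y = ⊤
  · let b := Module.finBasisOfFinrankEq (ZMod 3) W hk
    let R : G[F] →* Matrix (Fin k) (Fin k) (ZMod 3) :=
      ((LinearMap.toMatrixAlgEquiv b).toAlgHom.toRingHom.toMonoidHom).comp ρ₀
    have hR : ∀ g, R g = LinearMap.toMatrix b b (ρ₀ g) := fun g => rfl
    obtain ⟨c, hc, hcp⟩ := simple_decomp hcard hn R fun Y hY => by
      rcases hirr (Y.map b.equivFun.symm.toLinearMap) (fun g y hy => by
        obtain ⟨z, hz, rfl⟩ := hy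
        refine ⟨R g *ᵥ z, hY g z hz, ?_⟩
        apply b.equivFun.injective
        simp only [LinearEquiv.coe_coe, LinearEquiv.apply_symm_apply]
        rw [hR]
        have e := LinearMap.toMatrix_mulVec_repr b b (ρ₀ g) (b.equivFun.symm z)
        rw [← b.equivFun_apply, ← b.equivFun_apply, LinearEquiv.apply_symm_apply] at e
        exact e) with h | h
      · exact Or.inl (Submodule.map_injective_of_injective b.equivFun.symm.injective (by rw [h, Submodule.map_bot]))
      · exact Or.inr (Submodule.map_injective_of_injective b.equivFun.symm.injective (by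
          rw [h, Submodule.map_top, LinearEquiv.range]))
    exact ⟨c, hc, fun g => by rw [← hcp g, hR, LinearMap.charpoly_toMatrix]⟩
  · push Not at hirr
    obtain ⟨Y, hY, hY0, hY1⟩ := hirr
    let ρY : Representation (ZMod 3) G[F] Y :=
      { toFun := fun g => (ρ₀ g).restrict (hY g)
        map_one' := by ext x; simp
        map_mul' := fun g g' => by ext x; simp }
    let ρQ : Representation (ZMod 3) G[F] (W ⧸ Y) :=
      { toFun := fun g => Y.mapQ Y (ρ₀ g) (hY g)
        map_one' := by ext x; simp
        map_mul' := fun g g' => by ext x; simp }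
    have hlt : Module.finrank (ZMod 3) Y < k := hk ▸ Submodule.finrank_lt hY1
    have hlt' : Module.finrank (ZMod 3) (W ⧸ Y) < k := by
      have := Y.finrank_quotient_add_finrank
      have : 0 < Module.finrank (ZMod 3) Y := by
        rw [pos_iff_ne_zero, Ne, Submodule.finrank_eq_zero]; exact hY0
      omega
    obtain ⟨c1, hc1, hp1⟩ := ih _ hlt Y ρY rfl
    obtain ⟨c2, hc2, hp2⟩ := ih _ hlt' (W ⧸ Y) ρQ rfl
    refine ⟨fun d => c1 d + c2 d, fun d => by simp only [hc1, hc2], fun g => ?_⟩
    rw [charpoly_restrict_mul_mapQ (ρ₀ g) Y (hY g), Polynomial.map_mul]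
    show (ρY g).charpoly.map inc * (ρQ g).charpoly.map inc = _
    rw [hp1, hp2, ← Finset.prod_mul_distrib]
    simp only [pow_add]

end Cfsg.Agent.SL2Defining
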