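/-
Eigenvalues of semisimple elements of SL(2, q) in a representation over the field with three elements on which the
centre is trivial, as multisets of half weights.
-/
import Cfsg.Agent.Lib.SL2Defining.Rational

set_option autoImplicit false
set_option linter.style.haveILetI false
set_option linter.unusedSectionVars false

namespace Cfsg.Agent.SL2Defining

open Matrix Polynomial

local notation "G[" F "]" => Matrix.SpecialLinearGroup (Fin 2) F

variable {F : Type*} [Field F] [Fintype F] [CharP F 3] {n : ℕ}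

/-- The companion element of trace `t`. -/
def comp (t : F) : G[F] := ⟨!![0, -1; 1, t], by simp [det_fin_two_of]⟩

/-- The sum of the digits. -/
def dsum (d : Fin n → Fin 3) : ℕ := ∑ i, (d i).val

/-- Half the weight of a coordinate. -/
def hw (d : Fin n → Fin 3) (e : Idx d) : ℤ := wt 3 d e / 2

theorem wt_parity (d : Fin n → Fin 3) (e : Idx d) : ((wt 3 d e : ℤ) : ZMod 2) = (dsum d : ZMod 2) := by
  simp only [wt, dsum, Int.cast_sum, Int.cast_mul, Int.cast_sub, Int.cast_pow, Nat.cast_sum, Int.cast_natCast,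
    Int.cast_ofNat, Nat.cast_ofNat]
  refine Finset.sum_congr rfl fun i _ => ?_
  rw [show (2 : ZMod 2) = 0 from rfl, show (3 : ZMod 2) = 1 from rfl, zero_mul, sub_zero, one_pow, mul_one]

local instance instFactPrimeThreeTraces : Fact (Nat.Prime 3) := ⟨Nat.prime_three⟩

variable {k : Type*} [Field k] [CharP k 3]

/-- The eigenvalues of the companion element on a twisted tensor product. -/
theorem charpoly_rep_comp (d : Fin n → Fin 3) (ι : F →+* k) (t : F) (ζ : kˣ) (hsum : ι t = (ζ : k) + (ζ⁻¹ : kˣ))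
    (hne : (ζ : k) ≠ (ζ⁻¹ : kˣ)) :
    (rep 3 d (comp t).1).charpoly.map ι = ∏ e, (X - C ((ζ ^ wt 3 d e : kˣ) : k)) := by
  rw [← Matrix.charpoly_map, rep_map]
  set P : Matrix (Fin 2) (Fin 2) k := !![1, 1; -(ζ : k), -((ζ⁻¹ : kˣ) : k)] with hP
  have hdet : P.det ≠ 0 := by
    rw [hP, det_fin_two_of]
    intro h
    exact hne (by linear_combination h)
  have hinv : P⁻¹ * P = 1 := Matrix.nonsing_inv_mul P (isUnit_iff_ne_zero.2 hdet)
  have hinv' : P * P⁻¹ = 1 := Matrix.mul_nonsing_inv P (isUnit_iff_ne_zero.2 hdet)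
  have hPD : (comp t).1.map ι * P = P * !![(ζ : k), 0; 0, ((ζ⁻¹ : kˣ) : k)] := by
    have h1 : (ζ : k) * (ζ : k)⁻¹ = 1 := mul_inv_cancel₀ ζ.ne_zero
    ext i j
    fin_cases i <;> fin_cases j <;>
      simp [comp, hP, Matrix.mul_apply, Fin.sum_univ_two, hsum, Matrix.map_apply, Units.val_inv_eq_inv_val] <;>
      linear_combination -h1
  have hconj : (comp t).1.map ι = P * !![(ζ : k), 0; 0, ((ζ⁻¹ : kˣ) : k)] * P⁻¹ := by
    rw [← hPD, Matrix.mul_assoc, hinv', Matrix.mul_one]
  rw [hconj, rep_mul, rep_mul]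
  let U : (Matrix (Idx d) (Idx d) k)ˣ := ⟨rep 3 d P, rep 3 d P⁻¹, by rw [← rep_mul, hinv', rep_one],
    by rw [← rep_mul, hinv, rep_one]⟩
  rw [show rep 3 d P = (U : Matrix (Idx d) (Idx d) k) from rfl,
    show rep 3 d P⁻¹ = ((U⁻¹ : (Matrix (Idx d) (Idx d) k)ˣ) : Matrix (Idx d) (Idx d) k) from rfl,
    Matrix.coe_units_inv, Matrix.charpoly_units_conj, charpoly_rep_diag]

theorem neg_one_rep (d : Fin n → Fin 3) : (rep 3 d ((tor (-1 : Fˣ) : G[F]).1)).charpoly =
    (X - C ((-1 : F) ^ dsum d)) ^ Fintype.card (Idx d) := by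
  rw [tor_coe, charpoly_rep_diag, Finset.prod_congr rfl fun e _ => show (X - C (((-1 : Fˣ) ^ wt 3 d e : Fˣ) : F)) =
    X - C ((-1 : F) ^ dsum d) from ?_, Finset.prod_const, Finset.card_univ]
  congr 2
  have h := (ZMod.intCast_eq_intCast_iff_dvd_sub (wt 3 d e) (dsum d : ℤ) 2).1 (by
    rw [wt_parity]; push_cast; rfl)
  obtain ⟨j, hj⟩ := h
  rw [show wt 3 d e = (dsum d : ℤ) + 2 * (-j) by push_cast at hj ⊢; linarith, _root_.zpow_add, _root_.zpow_mul,
    show ((-1 : Fˣ) : Fˣ) ^ (2 : ℤ) = 1 by simp, _root_.one_zpow, mul_one, zpow_natCast]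
  simp

/-- The eigenvalues in a representation over the field with three elements. -/
theorem exists_counts (hcard : Fintype.card F = 3 ^ n) (hn : 0 < n) {N : Type} [Fintype N] [DecidableEq N]
    (A : G[F] →* Matrix N N (ZMod 3)) (hA : A (tor (-1)) = 1) :
    ∃ c : (Fin n → Fin 3) → ℕ, (∀ d, c (rot d) = c d) ∧ (∀ d, c d ≠ 0 → Even (dsum d)) ∧
      ∀ (ι : F →+* k) (j : ZMod 3 →+* k) (t : F) (ζ : kˣ), ι t = (ζ : k) + (ζ⁻¹ : kˣ) → (ζ : k) ≠ (ζ⁻¹ : kˣ) →
        ((A (comp t)).map j).charpoly.roots =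
          ∑ d, c d • (Finset.univ : Finset (Idx d)).val.map fun e => (((ζ ^ 2) ^ hw d e : kˣ) : k) := by
  classical
  let ρ₀ : Representation (ZMod 3) G[F] (N → ZMod 3) :=
    { toFun := fun g => Matrix.toLin' (A g)
      map_one' := by rw [map_one, Matrix.toLin'_one]; rfl
      map_mul' := fun g h => by rw [map_mul, Matrix.toLin'_mul]; rfl }
  obtain ⟨c, hc, hp⟩ := decomp hcard hn (N → ZMod 3) ρ₀
  have hρ : ∀ g, (ρ₀ g).charpoly = (A g).charpoly := fun g => by
    show (Matrix.toLin' (A g)).charpoly = _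
    rw [← LinearMap.charpoly_toMatrix _ (Pi.basisFun (ZMod 3) N), LinearMap.toMatrix_eq_toMatrix',
      LinearMap.toMatrix'_toLin']
  have heven : ∀ d, c d ≠ 0 → Even (dsum d) := by
    intro d hd
    by_contra hodd
    have h := congrArg (fun P : F[X] => P.eval (-1)) (hp (tor (-1)))
    simp only [hρ, hA, Matrix.charpoly_one, Polynomial.map_pow, Polynomial.map_sub, Polynomial.map_X,
      Polynomial.map_one, eval_pow, eval_sub, eval_X, eval_one, eval_prod, neg_one_rep, eval_C] at h
    have h0 : ((-1 : F) - (-1) ^ dsum d) ^ Fintype.card (Idx d) = 0 := by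
      rw [(Nat.not_even_iff_odd.1 hodd).neg_one_pow, sub_self, zero_pow Fintype.card_ne_zero]
    rw [Finset.prod_eq_zero (Finset.mem_univ d) (by rw [h0, zero_pow hd])] at h
    have h2 : (-1 : F) - 1 ≠ 0 := by
      intro h2
      have := (CharP.cast_eq_zero_iff F 3 2).1 (by push_cast; linear_combination -h2)
      norm_num at this
    exact h2 (eq_zero_of_pow_eq_zero h)
  refine ⟨c, hc, heven, fun ι j t ζ hsum hne => ?_⟩
  have hj : j = ι.comp inc := RingHom.ext_zmod _ _
  have hq : ((A (comp t)).map j).charpoly =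
      ((∑ d, c d • (Finset.univ : Finset (Idx d)).val.map fun e => (((ζ ^ 2) ^ hw d e : kˣ) : k)).map
        (fun z => X - C z)).prod := by
    rw [Matrix.charpoly_map, hj, ← Polynomial.map_map, ← hρ, hp, Polynomial.map_prod]
    have hsplit : ∀ S : Finset (Fin n → Fin 3),
        ((∑ d ∈ S, c d • (Finset.univ : Finset (Idx d)).val.map fun e => (((ζ ^ 2) ^ hw d e : kˣ) : k)).map
          fun z => X - C z).prod =
        ∏ d ∈ S, (∏ e : Idx d, (X - C (((ζ ^ 2) ^ hw d e : kˣ) : k))) ^ c d := by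
      intro S
      induction S using Finset.induction_on with
      | empty => simp
      | insert d S hd ih =>
        rw [Finset.sum_insert hd, Finset.prod_insert hd, Multiset.map_add, Multiset.prod_add, ih,
          Multiset.map_nsmul, Multiset.prod_nsmul, Multiset.map_map]
        rfl
    rw [hsplit]
    refine Finset.prod_congr rfl fun d _ => ?_
    rw [Polynomial.map_pow]
    rcases Nat.eq_zero_or_pos (c d) with h0 | hpos
    · rw [h0, pow_zero, pow_zero]
    · rw [charpoly_rep_comp d ι t ζ hsum hne]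
      congr 1
      refine Finset.prod_congr rfl fun e _ => ?_
      congr 3
      have h := wt_parity d e
      obtain ⟨a, ha⟩ := heven d hpos.ne'
      rw [ha, show ((a + a : ℕ) : ZMod 2) = 0 by push_cast; exact CharTwo.add_self_eq_zero _,
        ZMod.intCast_zmod_eq_zero_iff_dvd] at h
      rw [← zpow_natCast ζ 2, ← _root_.zpow_mul, hw]
      push_cast at h ⊢
      rw [Int.mul_ediv_cancel' h]
  rw [hq, roots_multiset_prod_X_sub_C]

end Cfsg.Agent.SL2Defining
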