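/-
Certificates against multiplicities of eigenvalues in representations of SL(2,3ⁿ) in characteristic three.
-/
import Cfsg.Agent.Lib.SL2Defining.Traces

set_option autoImplicit false

namespace Cfsg.Agent.SL2Defining

open Finset

/-- The entry of a table. -/
def ent (cs : List (List ℕ)) (j i : ℕ) : ℕ := (cs.getD j []).getD i 0

/-- The product of a functional with a vector. -/
def dot (y : List ℤ) (f : ℕ → ℤ) : ℤ := ((List.range y.length).map fun i => y.getD i 0 * f i).sum

/-- The product of a functional with a column. -/
def dotCol : List ℤ → List ℕ → ℤ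
  | a :: y, c :: cs => a * c + dotCol y cs
  | _, _ => 0

theorem dotCol_eq : ∀ (y : List ℤ) (c : List ℕ), dotCol y c = dot y fun i => (c.getD i 0 : ℤ) := by
  intro y
  induction y with
  | nil => intro c; cases c <;> rfl
  | cons a y ih =>
    intro c
    cases c with
    | nil => simp [dotCol, dot]
    | cons x c =>
      rw [dotCol, ih]
      simp only [dot, List.length_cons, List.range_succ_eq_map, List.map_cons, List.map_map, List.sum_cons]
      rfl

/-- Some of the first two entries of a column exceeds the target. -/
def tooBig (c : List ℕ) (b : List ℤ) : Bool :=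
  decide (b.getD 0 0 < c.getD 0 0) || decide (b.getD 1 0 < c.getD 1 0)

/-- A proof that a vector is no combination of columns. -/
inductive Cert where
  | pos (y : List ℤ)
  | res (q : ℕ) (y : List ℤ)
  | split (j : ℕ) (l r : Cert)

/-- The validity of a certificate. -/
def Cert.check : Cert → List (List ℕ) → List ℤ → Bool
  | .pos y, cs, b => decide (dot y (fun i => b.getD i 0) < 0) && cs.all fun c =>
      decide (0 ≤ dotCol y c) || tooBig c b
  | .res q y, cs, b => decide (dot y (fun i => b.getD i 0) % (q : ℤ) ≠ 0) && cs.all fun c =>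
      decide (dotCol y c % (q : ℤ) = 0) || tooBig c b
  | .split j l r, cs, b => l.check (cs.set j []) b &&
      r.check cs ((List.range b.length).map fun i => b.getD i 0 - ent cs j i)

theorem dot_eq (y : List ℤ) (f : ℕ → ℤ) : dot y f = ∑ i ∈ range y.length, y.getD i 0 * f i := rfl

/-- Soundness. -/
theorem Cert.sound : ∀ (C : Cert) (cs : List (List ℕ)) (b : List ℤ), C.check cs b = true →
    (∀ c ∈ cs, c.length ≤ b.length) → ∀ m : ℕ → ℕ,
    ¬ ∀ i, (∑ j ∈ range cs.length, (m j : ℤ) * ent cs j i) = b.getD i 0 := by
  have hlin : ∀ (cs : List (List ℕ)) (b : List ℤ) (m : ℕ → ℕ) (y : List ℤ),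
      (∀ i, (∑ j ∈ range cs.length, (m j : ℤ) * ent cs j i) = b.getD i 0) →
      dot y (fun i => b.getD i 0) = ∑ j ∈ range cs.length, (m j : ℤ) * dot y (fun i => (ent cs j i : ℤ)) := by
    intro cs b m y hm
    simp only [dot_eq, mul_sum]
    rw [sum_congr rfl fun i _ => by rw [← hm i, mul_sum]]
    rw [sum_comm]
    exact sum_congr rfl fun j _ => sum_congr rfl fun i _ => by ring
  have hbig : ∀ (cs : List (List ℕ)) (b : List ℤ) (m : ℕ → ℕ) (j : ℕ),
      (∀ i, (∑ j ∈ range cs.length, (m j : ℤ) * ent cs j i) = b.getD i 0) → j < cs.length →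
      tooBig (cs.getD j []) b = true → m j = 0 := by
    intro cs b m j hm hj h
    have key : ∀ i, b.getD i 0 < (ent cs j i : ℤ) → m j = 0 := by
      intro i hi
      by_contra hne
      have h1 := single_le_sum (f := fun j => (m j : ℤ) * ent cs j i) (fun j _ => by positivity) (mem_range.2 hj)
      rw [hm i] at h1
      have h2 : (1 : ℤ) * ent cs j i ≤ (m j : ℤ) * ent cs j i :=
        mul_le_mul_of_nonneg_right (by omega) (by positivity)
      omega
    simp only [tooBig, Bool.or_eq_true, decide_eq_true_eq] at h
    rcases h with h | h <;> exact key _ h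
  intro C
  induction C with
  | pos y =>
    intro cs b h _ m hm
    simp only [check, Bool.and_eq_true, decide_eq_true_eq, List.all_eq_true, Bool.or_eq_true, dotCol_eq] at h
    have hall : ∀ j < cs.length, _ := fun j hj => h.2 (cs.getD j []) (by
      rw [List.getD_eq_getElem?_getD, List.getElem?_eq_getElem hj]; exact List.getElem_mem hj)
    have h1 := h.1
    rw [hlin cs b m y hm] at h1
    refine absurd h1 (not_lt.2 (sum_nonneg fun j hj => ?_))
    rcases hall j (mem_range.1 hj) with h2 | h2
    · exact mul_nonneg (by positivity) h2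
    · simp [hbig cs b m j hm (mem_range.1 hj) h2]
  | res q y =>
    intro cs b h _ m hm
    simp only [check, Bool.and_eq_true, decide_eq_true_eq, List.all_eq_true, Bool.or_eq_true, dotCol_eq] at h
    have hall : ∀ j < cs.length, _ := fun j hj => h.2 (cs.getD j []) (by
      rw [List.getD_eq_getElem?_getD, List.getElem?_eq_getElem hj]; exact List.getElem_mem hj)
    have h1 := h.1
    rw [hlin cs b m y hm] at h1
    refine h1 (Int.emod_eq_zero_of_dvd (dvd_sum fun j hj => ?_))
    rcases hall j (mem_range.1 hj) with h2 | h2
    · exact (Int.dvd_of_emod_eq_zero h2).mul_left _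
    · simp [hbig cs b m j hm (mem_range.1 hj) h2]
  | split j l r hl hr =>
    intro cs b h hlen m hm
    simp only [check, Bool.and_eq_true] at h
    rcases Nat.eq_zero_or_pos (m j) with h0 | hpos
    · refine hl (cs.set j []) b h.1 (fun c hc => ?_) m fun i => ?_
      · rcases List.mem_or_eq_of_mem_set hc with hc | rfl
        · exact hlen c hc
        · simp
      · rw [← hm i, List.length_set]
        refine sum_congr rfl fun x hx => ?_
        rcases eq_or_ne x j with rfl | hne
        · simp [h0]
        · simp [ent, List.getD_eq_getElem?_getD, List.getElem?_set_ne hne.symm]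
    · refine hr cs _ h.2 (fun c hc => by simpa using hlen c hc) (Function.update m j (m j - 1)) fun i => ?_
      by_cases hj : j < cs.length
      · have hne : ∀ i, b.length ≤ i → ent cs j i = 0 := fun i hi => by
          have := hlen _ (List.getElem_mem hj)
          simp [ent, List.getD_eq_getElem?_getD, List.getElem?_eq_getElem hj,
            List.getElem?_eq_none (show (cs[j]).length ≤ i by omega)]
        have e : ((List.range b.length).map fun i => b.getD i 0 - (ent cs j i : ℤ)).getD i 0 =
            b.getD i 0 - ent cs j i := by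
          rcases lt_or_ge i b.length with hi | hi
          · simp [List.getD_eq_getElem?_getD, hi]
          · simp [List.getD_eq_getElem?_getD, hi, hne i hi]
        rw [e, ← hm i, ← add_sum_erase _ _ (mem_range.2 hj), ← add_sum_erase _ _ (mem_range.2 hj),
          Function.update_self, sum_congr rfl fun x hx => by rw [Function.update_of_ne (ne_of_mem_erase hx)],
          Nat.cast_sub hpos]
        push_cast
        ring
      · have e : ∀ i, ent cs j i = 0 := fun i => by
          simp [ent, List.getD_eq_getElem?_getD, List.getElem?_eq_none (not_lt.1 hj)]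
        have e' : ((List.range b.length).map fun i => b.getD i 0 - (ent cs j i : ℤ)).getD i 0 = b.getD i 0 := by
          rcases lt_or_ge i b.length with hi | hi
          · simp [List.getD_eq_getElem?_getD, hi, e]
          · simp [List.getD_eq_getElem?_getD, hi]
        rw [e', ← hm i]
        exact sum_congr rfl fun x hx => by rw [Function.update_of_ne (by rintro rfl; exact hj (mem_range.1 hx))]

variable {n : ℕ}

/-- The digits of a code. -/
def dec (n k : ℕ) : Fin n → Fin 3 := fun i => ⟨k / 3 ^ i.val % 3, Nat.mod_lt _ (by norm_num)⟩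

/-- The weights, listed. -/
def wl : {n : ℕ} → (Fin n → Fin 3) → List ℤ
  | 0, _ => [0]
  | _ + 1, d => (List.range ((d 0).val + 1)).flatMap fun (e : ℕ) =>
      (wl (Fin.tail d)).map fun w => ((d 0).val : ℤ) - 2 * (e : ℤ) + 3 * w

theorem sum_wl {M : Type*} [AddCommMonoid M] : ∀ {n : ℕ} (d : Fin n → Fin 3) (g : ℤ → M),
    ((wl d).map g).sum = ∑ e : Idx d, g (wt 3 d e) := by
  intro n
  induction n with
  | zero => intro d g; simp [wl, wt]
  | succ n ih =>
    intro d g
    rw [← (Fin.consEquiv fun i => Fin ((d i).val + 1)).sum_comp, Fintype.sum_prod_type, wl,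
      List.flatMap, List.map_flatten, List.sum_flatten, List.map_map, List.map_map,
      ← List.sum_toFinset _ List.nodup_range, List.toFinset_range, ← Fin.sum_univ_eq_sum_range]
    refine Finset.sum_congr rfl fun e _ => ?_
    simp only [Function.comp_apply, List.map_map]
    rw [ih (Fin.tail d)]
    refine Finset.sum_congr rfl fun f _ => ?_
    simp only [Function.comp_apply, Fin.consEquiv_apply, wt, Fin.sum_univ_succ,
      Fin.val_zero, pow_zero, mul_one, Finset.mul_sum, Fin.val_succ, pow_succ]
    congr 2
    refine Finset.sum_congr rfl fun i _ => ?_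
    simp only [Fin.tail]
    erw [Fin.cons_succ]
    push_cast
    ring

/-- The number of coordinates of given residue. -/
def resCount (m r : ℕ) (ws : List ℤ) : ℕ := ws.countP fun w => decide (((w / 2) % (m : ℤ)).toNat = r)

theorem card_hw (m : ℕ) [NeZero m] (r : ℕ) (hr : r < m) (d : Fin n → Fin 3) :
    (Finset.univ.filter fun e : Idx d => (hw d e : ZMod m) = r).card = resCount m r (wl d) := by
  rw [card_filter, resCount]
  have h : ∀ w : ℤ, (((w / 2 : ℤ) : ZMod m) = (r : ZMod m)) ↔ ((w / 2) % (m : ℤ)).toNat = r := fun w => by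
    rw [← Int.cast_natCast (r : ℕ), ZMod.intCast_eq_intCast_iff', Int.emod_eq_of_lt (Int.natCast_nonneg r) (by omega)]
    have := Int.emod_nonneg (w / 2) (show (m : ℤ) ≠ 0 by exact_mod_cast NeZero.ne m)
    omega
  have hc : ∀ (p : ℤ → Bool) (l : List ℤ), l.countP p = (l.map fun w => if p w then 1 else 0).sum := by
    intro p l
    induction l with
    | nil => rfl
    | cons a l ih => rw [List.countP_cons, List.map_cons, List.sum_cons, ih]; omega
  rw [hc, sum_wl]
  refine sum_congr rfl fun e _ => ?_
  simp only [hw, h, decide_eq_true_eq]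

/-- A list of all orbits of the turning on the codes with even digit sum. -/
def OrbitsOK (n : ℕ) (orbs : List (List ℕ)) : Bool :=
  decide orbs.flatten.Nodup && orbs.flatten.all (fun k => decide (k < 3 ^ n)) &&
    (List.range (3 ^ n)).all (fun k => decide (dsum (dec n k) % 2 = 1) || orbs.flatten.contains k) &&
    orbs.all fun o => (List.range (o.length - 1)).all fun i =>
      decide (rot (dec n (o.getD i 0)) = dec n (o.getD (i + 1) 0))

theorem sum_orbits {orbs : List (List ℕ)} (h : OrbitsOK n orbs = true) (c : (Fin n → Fin 3) → ℕ)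
    (hrot : ∀ d, c (rot d) = c d) (heven : ∀ d, c d ≠ 0 → Even (dsum d)) (f : (Fin n → Fin 3) → ℕ) :
    ∑ d, c d * f d = ∑ j ∈ range orbs.length,
      c (dec n ((orbs.getD j []).getD 0 0)) * ((orbs.getD j []).map fun k => f (dec n k)).sum := by
  classical
  simp only [OrbitsOK, Bool.and_eq_true, decide_eq_true_eq, List.all_eq_true, Bool.or_eq_true, List.mem_range,
    List.contains_iff_mem] at h
  obtain ⟨⟨⟨hnd, hlt⟩, hall⟩, hch⟩ := h
  have hdec : ∀ k : Fin (3 ^ n), finFunctionFinEquiv.symm k = dec n k.val := fun k => by
    funext i; exact Fin.ext (by simp [finFunctionFinEquiv, dec])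
  have e1 : ∑ d, c d * f d = ∑ k ∈ range (3 ^ n), c (dec n k) * f (dec n k) := by
    rw [← Fin.sum_univ_eq_sum_range (fun k => c (dec n k) * f (dec n k)), ← finFunctionFinEquiv.symm.sum_comp]
    exact Fintype.sum_congr _ _ fun k => by rw [hdec]
  have e2 : ∑ k ∈ range (3 ^ n), c (dec n k) * f (dec n k) =
      ∑ k ∈ orbs.flatten.toFinset, c (dec n k) * f (dec n k) := by
    refine (sum_subset (fun k hk => mem_range.2 (hlt k (List.mem_toFinset.1 hk))) fun k hk hn => ?_).symm
    rcases hall k (mem_range.1 hk) with h1 | h1
    · rw [show c (dec n k) = 0 by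
        by_contra hne
        have := Nat.even_iff.1 (heven _ hne)
        omega, zero_mul]
    · exact absurd (List.mem_toFinset.2 h1) hn
  have hconst : ∀ o ∈ orbs, ∀ i < o.length, c (dec n (o.getD i 0)) = c (dec n (o.getD 0 0)) := by
    intro o ho i hi
    induction i with
    | zero => rfl
    | succ i ih => rw [← hch o ho i (by omega), hrot, ih (by omega)]
  rw [e1, e2, List.sum_toFinset _ hnd, List.map_flatten, List.sum_flatten, List.map_map]
  have e3 : ∀ L : List (List ℕ), ∀ g : List ℕ → ℕ,
      (L.map g).sum = ∑ j ∈ range L.length, g (L.getD j []) := by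
    intro L g
    induction L with
    | nil => simp
    | cons a L ih => rw [List.map_cons, List.sum_cons, List.length_cons, sum_range_succ', ih]; simp [add_comm]
  rw [e3]
  refine sum_congr rfl fun j hj => ?_
  rw [mem_range] at hj
  simp only [Function.comp_apply, List.getD_eq_getElem?_getD, List.getElem?_eq_getElem hj, Option.getD_some]
  rw [← List.sum_map_mul_left]
  refine congrArg List.sum (List.map_congr_left fun k hk => ?_)
  obtain ⟨i, hi, rfl⟩ := List.getElem_of_mem hk
  have := hconst _ (List.getElem_mem hj) i hi
  simp only [List.getD_eq_getElem?_getD, List.getElem?_eq_getElem hi, Option.getD_some] at this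
  rw [this]

theorem count_map_inj {X : Type*} {m : ℕ} {k : Type*} [DecidableEq k] (u : ZMod m → k) (hu : Function.Injective u)
    (r : ZMod m) (s : Finset X) (g : X → ZMod m) :
    Multiset.count (u r) (s.val.map fun x => u (g x)) = (s.filter fun x => g x = r).card := by
  rw [Multiset.count_map, card_def, filter_val]
  exact congrArg Multiset.card (Multiset.filter_congr fun x _ => ⟨fun h => (hu h).symm, fun h => h ▸ rfl⟩)

/-- Comparing multiplicities of eigenvalues. -/
theorem counts_eq {k : Type*} [Field k] {m : ℕ} [NeZero m] (u : ZMod m → k) (hu : Function.Injective u) (ζ : kˣ)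
    (hz : ∀ z : ℤ, (((ζ ^ 2) ^ z : kˣ) : k) = u z) {ι : Type*} [Fintype ι] (ex : ι → ZMod m)
    (c : (Fin n → Fin 3) → ℕ)
    (h : ∑ d, c d • (Finset.univ : Finset (Idx d)).val.map (fun e => (((ζ ^ 2) ^ hw d e : kˣ) : k)) =
      (Finset.univ : Finset ι).val.map fun i => u (ex i)) (r : ZMod m) :
    ∑ d, c d * (Finset.univ.filter fun e : Idx d => (hw d e : ZMod m) = r).card =
      (Finset.univ.filter fun i => ex i = r).card := by
  classical
  have hh := congrArg (Multiset.count (u r)) h
  rw [Multiset.count_sum'] at hh
  simp only [Multiset.count_nsmul, hz] at hh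
  simp only [count_map_inj u hu] at hh
  exact hh

/-- The multiplicities of a feasible vector. -/
theorem no_counts {orbs cs : List (List ℕ)} (h : OrbitsOK n orbs = true) (tests : List (ℕ × ℕ))
    (hcs : cs = orbs.map fun o => tests.map fun t => resCount t.1 t.2 (o.flatMap fun k => wl (dec n k)))
    (b : List ℤ) (hb : b.length = tests.length) (C : Cert) (hC : C.check cs b = true)
    (c : (Fin n → Fin 3) → ℕ) (hrot : ∀ d, c (rot d) = c d) (heven : ∀ d, c d ≠ 0 → Even (dsum d)) :
    ¬ ∀ i < tests.length, ((∑ d, c d * resCount (tests.getD i (0, 0)).1 (tests.getD i (0, 0)).2 (wl d) : ℕ) : ℤ) =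
      b.getD i 0 := by
  intro hsum
  refine C.sound cs b hC (fun x hx => ?_) (fun j => c (dec n ((orbs.getD j []).getD 0 0))) fun i => ?_
  · rw [hcs, List.mem_map] at hx
    obtain ⟨o, -, rfl⟩ := hx
    rw [List.length_map, hb]
  · have hlen : cs.length = orbs.length := by rw [hcs, List.length_map]
    rcases lt_or_ge i tests.length with hi | hi
    · rw [← hsum i hi, sum_orbits h c hrot heven, hlen, Nat.cast_sum]
      refine sum_congr rfl fun j hj => ?_
      rw [mem_range] at hj
      rw [Nat.cast_mul]
      congr 2
      simp only [ent, hcs, List.getD_eq_getElem?_getD, List.getElem?_map, List.getElem?_eq_getElem hj,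
        List.getElem?_eq_getElem hi, Option.map_some, Option.getD_some, resCount, List.countP_flatMap]
      rfl
    · rw [List.getD_eq_getElem?_getD, List.getElem?_eq_none (by omega), Option.getD_none]
      refine sum_eq_zero fun j hj => ?_
      rw [mem_range, hlen] at hj
      simp [ent, hcs, List.getD_eq_getElem?_getD, List.getElem?_eq_getElem hj, List.getElem?_eq_none hi]

end Cfsg.Agent.SL2Defining
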